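import Cfsg.Agent.H493.PGE6T
import Cfsg.Agent.H696.GmnTwE6

/-!
# `²E₆(q)` in the fixed points of the twisted Frobenius: the index divides `gcd(3, q + 1)` (helper744)

* `torus_index`;
* `exists_mul_mem` : `σ y = y`, `σ τ = τ`, `τ` not in `²E₆(q)` : some `y τ ^ i` is in `²E₆(q)`.
-/

set_option autoImplicit false
set_option linter.unusedSectionVars false
set_option linter.style.haveILetI false

namespace Cfsg.Agent.H744.Fx.TwE6

open CoxeterSystem Cfsg Cfsg.Lie Cfsg.Lie.ChevalleyDatum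
open Cfsg.Agent.ChevalleyStructure Cfsg.Agent.ChevalleyStructure.Elts Cfsg.Agent.ChevalleyStructure.CoxeterGeom
  Cfsg.Agent.ChevalleyStructure.CoxeterGeomTypes Cfsg.Agent.ChevalleyStructure.NPerm
open Cfsg.Agent.Tits.Roots Cfsg.Agent.Tits.Core Cfsg.Agent.Nodes Cfsg.Agent.Nodes.Reps Cfsg.Agent.Nodes.BNOf
  Cfsg.Agent.Nodes.RGDChev Cfsg.Agent.Nodes.Bruhat Cfsg.Agent.Nodes.SubComb Cfsg.Agent.Nodes.Coroot
open Cfsg.Agent.KFacts.RgdField Cfsg.Agent.KFacts.RgdChevCoord Cfsg.Agent.BpExc.TorCent Cfsg.Agent.BpExc.TorChev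
open Cfsg.Agent.GpExc.Field Cfsg.Agent.BpExc.Tow Cfsg.Agent.BpExc.TowChev Cfsg.Agent.BpExc.Fr
  Cfsg.Agent.BpExc.LangFr Cfsg.Agent.LangThm Cfsg.Agent.BpExc Cfsg.Agent.H129.TorusChar Cfsg.Agent.H129.TorusCent
  Cfsg.Agent.H129.TorusTw Cfsg.Agent.H129.TorusMain Cfsg.Agent.ChevStructure.FieldMap Cfsg.Agent.BpExc.EmbInst
  Cfsg.Agent.H129.TorusUntw
open Cfsg.Agent.ChevalleyStructure.TwE6Basic (sg rho)
open Cfsg.Agent.ChevalleyStructure.GraphSymm (symmE6)
open Cfsg.Agent.H493.TwE6Alg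

universe u

variable {k : Type u} [Field k] [IsAlgClosed k] {p e : ℕ} [Fact p.Prime] [CharP k p]
  {F : Type u} [Field F] [Fintype F] (f : F →+* k)

/-- The index in the fixed elements of the torus. -/
theorem torus_index {q : ℕ} (hqe : q = p ^ e) (hq : IsPrimePow q) (hF : Fintype.card F = q ^ 2) :
    ((embT (k := k) f q).range.subgroupOf (TF k p e)).index ∣ Nat.gcd 3 (q + 1) := by
  classical
  let cs := CoxeterMatrix.E₆.toCoxeterSystem
  -- the values
  have hval : ∀ {s : ↥(chevE6.group k)}, s ∈ TT chevE6 k → tau k p e s = s → ∀ x,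
      cX RGDTwE6.hp s (dua x) = cX RGDTwE6.hp s x ^ q := by
    intro s hs hs' x
    have h := cX_sigma RGDTwE6.hp cs isFrob_tau (fr_tau (k := k) (p := p) (e := e) cs) hs x
    rw [hs'] at h
    rw [h, hqe]
  have hv : ∀ s : TF k p e, ∀ i : Fin 6, cX RGDTwE6.hp s.1 (sr (pi i)) = cX RGDTwE6.hp s.1 (sr i) ^ q := by
    intro s i
    rw [← dua_sr]
    exact hval s.2.1 s.2.2 _
  have hpi : ∀ i : Fin 6, pi (pi i) = i := by decide
  have hr : ∀ s : TF k p e, ∀ i : Fin 6, ∃ b : F, f b = cX RGDTwE6.hp s.1 (sr i) := fun s i =>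
    Emb.mem_range_of_pow f (by
      have h1 := hv s (pi i)
      rw [hpi, hv s i, ← pow_mul, ← sq] at h1
      rw [hF, ← h1])
  have hne : ∀ s : TF k p e, ∀ i : Fin 6, cX RGDTwE6.hp s.1 (sr i) ≠ 0 := fun s i =>
    (isMC_cX RGDTwE6.hp s.2.1).ne_zero _
  choose κ hκ using hr
  have hκ0 : ∀ s i, κ s i ≠ 0 := by
    intro s i h0
    have h1 := hκ s i
    rw [h0, map_zero] at h1
    exact hne s i h1.symm
  -- the homomorphism into `(Fˣ)² × (F_qˣ)²`
  obtain ⟨φ0, hφ0⟩ := D4Fixed.exists_frob hq hF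
  let Fx : Subgroup Fˣ := (Units.map (φ0 : F →* F)).eqLocus (MonoidHom.id _)
  have hfix : ∀ s : TF k p e, ∀ i, pi i = i → Units.mk0 (κ s i) (hκ0 s i) ∈ Fx := by
    intro s i hi
    apply Units.ext
    show φ0 (κ s i) = κ s i
    apply f.injective
    rw [hφ0, map_pow, hκ, ← hv s i, hi]
  have hmul : ∀ (s s' : TF k p e) (i : Fin 6), κ (s * s') i = κ s i * κ s' i := by
    intro s s' i
    apply f.injective
    rw [hκ, map_mul, hκ, hκ]
    exact cX_mul RGDTwE6.hp s.2.1 s'.2.1 _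
  let Ψ : TF k p e →* (Fˣ × Fˣ) × (Fx × Fx) :=
    { toFun := fun s => ((Units.mk0 (κ s 0) (hκ0 s 0), Units.mk0 (κ s 2) (hκ0 s 2)),
        (⟨Units.mk0 (κ s 1) (hκ0 s 1), hfix s 1 (by decide)⟩, ⟨Units.mk0 (κ s 3) (hκ0 s 3), hfix s 3 (by decide)⟩))
      map_one' := by
        have h1 : ∀ i, κ 1 i = 1 := fun i => by
          have h2 := hmul 1 1 i
          rw [mul_one] at h2
          exact (mul_eq_left₀ (hκ0 1 i)).1 h2.symm
        refine Prod.ext (Prod.ext (Units.ext (h1 0)) (Units.ext (h1 2)))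
          (Prod.ext (Subtype.ext (Units.ext (h1 1))) (Subtype.ext (Units.ext (h1 3))))
      map_mul' := fun s s' => by
        refine Prod.ext (Prod.ext (Units.ext (hmul s s' 0)) (Units.ext (hmul s s' 2)))
          (Prod.ext (Subtype.ext (Units.ext (hmul s s' 1))) (Subtype.ext (Units.ext (hmul s s' 3)))) }
  have hΨ : Function.Injective Ψ := by
    intro s s' h
    apply Subtype.ext
    have h0 : κ s 0 = κ s' 0 := congrArg (fun z => ((z.1.1 : Fˣ) : F)) h
    have h2 : κ s 2 = κ s' 2 := congrArg (fun z => ((z.1.2 : Fˣ) : F)) h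
    have h1 : κ s 1 = κ s' 1 := congrArg (fun z => ((z.2.1.1 : Fˣ) : F)) h
    have h3 : κ s 3 = κ s' 3 := congrArg (fun z => ((z.2.2.1 : Fˣ) : F)) h
    have e : ∀ i, κ s i = κ s' i → cX RGDTwE6.hp s.1 (sr i) = cX RGDTwE6.hp s'.1 (sr i) := fun i hi => by
      rw [← hκ, ← hκ, hi]
    refine cX_inj RGDTwE6.hp s.2.1 s'.2.1 fun i => ?_
    fin_cases i
    · exact e 0 h0
    · exact e 1 h1
    · exact e 2 h2
    · exact e 3 h3
    · show cX RGDTwE6.hp s.1 (sr (pi 2)) = cX RGDTwE6.hp s'.1 (sr (pi 2))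
      rw [hv, hv, e 2 h2]
    · show cX RGDTwE6.hp s.1 (sr (pi 0)) = cX RGDTwE6.hp s'.1 (sr (pi 0))
      rw [hv, hv, e 0 h0]
  -- the subgroup
  have hι : ∀ x : ↥(chevE6.diagonalSubgroup F ⊓ twistedE6 F q),
      ((embT (k := k) f q).comp (Subgroup.inclusion inf_le_right)) x ∈ TF k p e := fun x =>
    ⟨emb_T RGDTwE6.hp f ⟨Subgroup.inclusion (tw_le F q) ⟨x.1, x.2.2⟩, x.2.1, rfl⟩, tau_embT f hqe hq hF _⟩
  let ι : ↥(chevE6.diagonalSubgroup F ⊓ twistedE6 F q) →* TF k p e :=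
    ((embT (k := k) f q).comp (Subgroup.inclusion inf_le_right)).codRestrict (TF k p e) hι
  have hιinj : Function.Injective ι := by
    intro x y h
    have h1 : embT (k := k) f q (Subgroup.inclusion inf_le_right x) =
        embT (k := k) f q (Subgroup.inclusion inf_le_right y) := congrArg Subtype.val h
    exact Subgroup.inclusion_injective _ (embT_injective f q h1)
  have hFx : Nat.card Fx = q - 1 := by
    have h1 : Nat.card {b : Fˣ // φ0 b = b} = q - 1 := D4H1.card_fixed hq.one_lt hF hφ0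
    rw [← h1]
    refine Nat.card_congr (Equiv.subtypeEquivRight fun b => ?_)
    constructor
    · intro h
      exact congrArg Units.val h
    · intro h
      exact Units.ext h
  have hcardT : Nat.card (TF k p e) ∣ (q ^ 2 - 1) * (q ^ 2 - 1) * ((q - 1) * (q - 1)) := by
    have h1 := Subgroup.card_dvd_of_injective Ψ hΨ
    rw [Nat.card_prod, Nat.card_prod, Nat.card_prod, D4H1.natCard_units hF, hFx] at h1
    exact h1
  have hN : (q ^ 2 - 1) * (q ^ 2 - 1) * ((q - 1) * (q - 1)) = (q - 1) ^ 4 * (q + 1) ^ 2 := by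
    obtain ⟨m, rfl⟩ : ∃ m, q = m + 1 := ⟨q - 1, (Nat.sub_add_cancel hq.one_lt.le).symm⟩
    have h1 : (m + 1) ^ 2 - 1 = m * (m + 2) := by
      apply Nat.sub_eq_of_eq_add
      ring
    rw [h1, Nat.add_sub_cancel]
    ring
  have hfinT : Finite (TF k p e) := by
    have : Finite ((Fˣ × Fˣ) × (Fx × Fx)) := inferInstance
    exact Finite.of_injective Ψ hΨ
  have hH := Cfsg.Agent.S1102.result hq hF
  have hpos : 0 < (q - 1) ^ 4 * (q + 1) ^ 2 := by
    have := hq.one_lt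
    have : 0 < q - 1 := by omega
    positivity
  have hcS : Nat.card ι.range = Nat.card ↥(chevE6.diagonalSubgroup F ⊓ twistedE6 F q) :=
    (Nat.card_congr (MonoidHom.ofInjective hιinj).toEquiv).symm
  have hidx : ι.range.index ∣ Nat.gcd 3 (q + 1) := by
    have h1 := ι.range.card_mul_index
    rw [hN, ← hH, ← h1, hcS, mul_comm] at hcardT
    have h3 : 0 < Nat.card ↥(chevE6.diagonalSubgroup F ⊓ twistedE6 F q) := by
      rw [← hH] at hpos
      exact pos_of_mul_pos_right hpos (Nat.zero_le _)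
    exact Nat.dvd_of_mul_dvd_mul_right h3 hcardT
  refine (Subgroup.index_dvd_of_le ?_).trans hidx
  rintro _ ⟨x, rfl⟩
  exact ⟨Subgroup.inclusion inf_le_right x, rfl⟩

/-- The fixed elements. -/
def SF (k : Type u) [Field k] [IsAlgClosed k] (p e : ℕ) [Fact p.Prime] [CharP k p] :
    Subgroup ↥(chevE6.group k) where
  carrier := {t | tau k p e t = t}
  mul_mem' := by
    intro a b h2 h4
    show tau k p e (a * b) = a * b
    rw [map_mul, show tau k p e a = a from h2, show tau k p e b = b from h4]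
  one_mem' := map_one _
  inv_mem' := by
    intro a h2
    show tau k p e a⁻¹ = a⁻¹
    rw [map_inv, show tau k p e a = a from h2]

theorem mem_SF {g : ↥(chevE6.group k)} : g ∈ SF k p e ↔ tau k p e g = g := Iff.rfl

/-- fixed elements normalise the finite group -/
theorem conj_range {q : ℕ} (hqe : q = p ^ e) (hq : IsPrimePow q) (hF : Fintype.card F = q ^ 2)
    {g : ↥(chevE6.group k)} (hg : tau k p e g = g) :
    ∀ y ∈ (embT (k := k) f q).range, g * y * g⁻¹ ∈ (embT (k := k) f q).range := by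
  rintro _ ⟨y, rfl⟩
  have h3 := twE6_normalizer (f := f) hq hF (frob_apply hqe) g.2 ((tau_eq_iff g).1 hg)
  rw [Subgroup.mem_normalizer_iff] at h3
  obtain ⟨z, hz, hz'⟩ := (h3 (glMap chevE6 f y)).1 ⟨y, y.2, rfl⟩
  refine ⟨⟨z, hz⟩, Subtype.ext ?_⟩
  rw [coe_embT]
  rw [hz', Subgroup.coe_mul, Subgroup.coe_mul, Subgroup.coe_inv, coe_embT]

/-- **Elements of the fixed points modulo `²E₆(q)`.** -/
theorem exists_mul_mem {q : ℕ} (hqe : q = p ^ e) (hq : IsPrimePow q) (hF : Fintype.card F = q ^ 2)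
    {y τ : ↥(chevE6.group k)} (hy : tau k p e y = y) (hτ : tau k p e τ = τ)
    (hn : τ ∉ (embT (k := k) f q).range) : ∃ i : ℕ, y * τ ^ i ∈ (embT (k := k) f q).range := by
  obtain ⟨R, hR⟩ : ∃ R, R = (embT (k := k) f q).range.subgroupOf (SF k p e) := ⟨_, rfl⟩
  haveI hnorm : R.Normal := by
    constructor
    rintro ⟨a, ha⟩ h ⟨g, hg⟩
    rw [hR, Subgroup.mem_subgroupOf] at h ⊢
    exact conj_range f hqe hq hF hg a h
  have hTS : TF k p e ≤ SF k p e := fun t ht => ht.2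
  let θ : ↥(TF k p e) →* ↥(SF k p e) ⧸ R := (QuotientGroup.mk' R).comp (Subgroup.inclusion hTS)
  have hθ : Function.Surjective θ := by
    intro z
    obtain ⟨⟨s, hs⟩, rfl⟩ := QuotientGroup.mk'_surjective R z
    obtain ⟨x, hx, t, ht, h1⟩ := twE6_split (f := f) hq hF (frob_apply hqe) s.2 ((tau_eq_iff s).1 hs)
    let t' : ↥(chevE6.group k) := ⟨t, diagonal_le_group RGDTwE6.hp.inList k ht⟩
    have e1 : s = embT f q ⟨x, hx⟩ * t' := by
      apply Subtype.ext
      rw [Subgroup.coe_mul, coe_embT]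
      exact h1
    have hσt : tau k p e t' = t' := by
      have h2 : tau k p e s = s := hs
      rw [e1, map_mul, tau_embT f hqe hq hF] at h2
      exact mul_left_cancel h2
    have hT : t' ∈ TF k p e := ⟨ht, hσt⟩
    have hE : embT f q ⟨x, hx⟩ ∈ SF k p e := tau_embT f hqe hq hF _
    refine ⟨⟨t', hT⟩, ?_⟩
    have e2 : (⟨s, hs⟩ : ↥(SF k p e)) = ⟨embT f q ⟨x, hx⟩, hE⟩ * Subgroup.inclusion hTS ⟨t', hT⟩ := Subtype.ext e1
    show QuotientGroup.mk' R (Subgroup.inclusion hTS ⟨t', hT⟩) = QuotientGroup.mk' R ⟨s, hs⟩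
    rw [e2, map_mul]
    have e3 : QuotientGroup.mk' R ⟨embT f q ⟨x, hx⟩, hE⟩ = 1 := by
      rw [QuotientGroup.mk'_apply, QuotientGroup.eq_one_iff, hR, Subgroup.mem_subgroupOf]
      exact ⟨_, rfl⟩
    rw [e3, one_mul]
  have hcard : Nat.card (↥(SF k p e) ⧸ R) ∣ 3 := by
    have h1 : Nat.card (↥(SF k p e) ⧸ R) = θ.ker.index := by
      rw [Subgroup.index_ker, MonoidHom.range_eq_top.2 hθ, Subgroup.card_top]
    rw [h1]
    refine (Subgroup.index_dvd_of_le ?_).trans ((torus_index f hqe hq hF).trans (Nat.gcd_dvd_left 3 (q + 1)))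
    intro t ht
    rw [Subgroup.mem_subgroupOf] at ht
    rw [MonoidHom.mem_ker]
    show QuotientGroup.mk' R (Subgroup.inclusion hTS t) = 1
    rw [QuotientGroup.mk'_apply, QuotientGroup.eq_one_iff, hR, Subgroup.mem_subgroupOf]
    exact ht
  have hτ1 : QuotientGroup.mk' R ⟨τ, hτ⟩ ≠ 1 := by
    rw [Ne, QuotientGroup.mk'_apply, QuotientGroup.eq_one_iff, hR, Subgroup.mem_subgroupOf]
    exact hn
  have h3 : Nat.card (↥(SF k p e) ⧸ R) = 3 := by
    rcases (Nat.dvd_prime Nat.prime_three).1 hcard with h | h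
    · exfalso
      haveI := (Nat.card_eq_one_iff_unique.1 h).1
      exact hτ1 (Subsingleton.elim _ _)
    · exact h
  haveI : Fact (Nat.Prime 3) := ⟨Nat.prime_three⟩
  haveI : Finite (↥(SF k p e) ⧸ R) := Nat.finite_of_card_ne_zero (by rw [h3]; norm_num)
  have htop := zpowers_eq_top_of_prime_card h3 hτ1
  have hmem : (QuotientGroup.mk' R ⟨y, hy⟩)⁻¹ ∈ Subgroup.zpowers (QuotientGroup.mk' R ⟨τ, hτ⟩) := by
    rw [htop]; trivial
  rw [← mem_powers_iff_mem_zpowers] at hmem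
  obtain ⟨i, hi⟩ := hmem
  refine ⟨i, ?_⟩
  have h4 : QuotientGroup.mk' R (⟨y, hy⟩ * ⟨τ, hτ⟩ ^ i) = 1 := by
    rw [map_mul, map_pow]
    rw [show QuotientGroup.mk' R ⟨τ, hτ⟩ ^ i = (QuotientGroup.mk' R ⟨y, hy⟩)⁻¹ from hi, mul_inv_cancel]
  rw [QuotientGroup.mk'_apply, QuotientGroup.eq_one_iff, hR, Subgroup.mem_subgroupOf] at h4
  exact h4

end Cfsg.Agent.H744.Fx.TwE6
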