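import Cfsg.Agent.H744.Fx.Crit
import Cfsg.Agent.H493.PGE6
import Cfsg.Agent.H493.PGE7
import Cfsg.Agent.H129.PhiE
import Cfsg.Agent.S1062
import Cfsg.Agent.S1063
import Cfsg.Agent.S1064
import Cfsg.Agent.S1065

/-!
# Fixity 3 and 4: the rows `F₄(q)`, `E₆(q)`, `E₇(q)`, `E₈(q)` of S3002, S2993 (helper744)
-/

set_option autoImplicit false
set_option linter.unusedSectionVars false
set_option linter.style.haveILetI false

namespace Cfsg.Agent.H744.Fx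

open Matrix Subgroup Cfsg Cfsg.Lie CoxeterSystem
open Cfsg.Agent.ChevalleyStructure.Elts Cfsg.Agent.ChevalleyStructure.SL2Hom
  Cfsg.Agent.ChevalleyStructure.CoxeterGeom Cfsg.Agent.ChevalleyStructure.CoxeterGeomTypes
  Cfsg.Agent.ChevalleyStructure.StBasic
open Cfsg.Agent.Nodes.RGDChev Cfsg.Agent.Tits.Roots
open Cfsg.Agent.H92.ExcSL2 (SL2 ph ph_eq_one ph_commute coe_ph phi_up phi_lo OrthB Orth4 commute_of_up_lo xG_commute
  orderOf_ph thr orderOf_thr wel wel_sq orderOf_wel)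
open Cfsg.Agent.H254.Fx Cfsg.Agent.H493.PGTorus Cfsg.Agent.H129.TorusChar Cfsg.Agent.H129.StCover
  Cfsg.Agent.H493 Cfsg.Agent.H493.PGCyc Cfsg.Agent.H129.WData
open Cfsg.Agent.BpExc.RowsUntw (f4T e6T e7T e8T)
open Cfsg.Agent.H696.GmnUntw (center_eq_bot_of_simple)

/-! ### tables -/

/-- `F4l` -/
def rF4l : Fin 3 → Fin 3 → ℕ := ![![0, 33, 7], ![14, 0, 3], ![40, 44, 0]]
/-- signs -/
def sF4l : Fin 3 → Fin 3 → ℤ := ![![1, 1, 1], ![1, 1, -1], ![1, -1, 1]]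
theorem tF4l : TabOK chevF4 rF4l sF4l :=
  ⟨by decide +kernel, by decide +kernel, by decide +kernel, by decide +kernel⟩

/-- `F4s` -/
def rF4s : Fin 3 → Fin 3 → ℕ := ![![0, 25, 26], ![22, 0, 24], ![21, 23, 0]]
/-- signs -/
def sF4s : Fin 3 → Fin 3 → ℤ := ![![1, 1, 1], ![1, 1, -1], ![1, -1, 1]]
theorem tF4s : TabOK chevF4 rF4s sF4s :=
  ⟨by decide +kernel, by decide +kernel, by decide +kernel, by decide +kernel⟩

/-- `F4a` -/
def rF4a : Fin 4 → Fin 4 → ℕ := ![![0, 25, 26, 2], ![22, 0, 24, 1], ![21, 23, 0, 0], ![45, 46, 47, 0]]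
/-- signs -/
def sF4a : Fin 4 → Fin 4 → ℤ := ![![1, 1, 1, 1], ![1, 1, -1, -1], ![1, -1, 1, -1], ![1, -1, -1, 1]]
theorem tF4a : TabOK chevF4 rF4a sF4a :=
  ⟨by decide +kernel, by decide +kernel, by decide +kernel, by decide +kernel⟩

/-- `E6a` -/
def rE6a : Fin 3 → Fin 3 → ℕ := ![![0, 56, 57], ![15, 0, 42], ![14, 29, 0]]
/-- signs -/
def sE6a : Fin 3 → Fin 3 → ℤ := ![![1, 1, 1], ![1, 1, -1], ![1, -1, 1]]
theorem tE6a : TabOK chevE6 rE6a sE6a :=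
  ⟨by decide +kernel, by decide +kernel, by decide +kernel, by decide +kernel⟩

/-- `E6b` -/
def rE6b : Fin 3 → Fin 3 → ℕ := ![![0, 37, 38], ![34, 0, 36], ![33, 35, 0]]
/-- signs -/
def sE6b : Fin 3 → Fin 3 → ℤ := ![![1, 1, 1], ![1, 1, -1], ![1, -1, 1]]
theorem tE6b : TabOK chevE6 rE6b sE6b :=
  ⟨by decide +kernel, by decide +kernel, by decide +kernel, by decide +kernel⟩

/-- `E6c` -/
def rE6c : Fin 4 → Fin 4 → ℕ := ![![0, 56, 57, 58], ![15, 0, 42, 43], ![14, 29, 0, 39], ![13, 28, 32, 0]]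
/-- signs -/
def sE6c : Fin 4 → Fin 4 → ℤ := ![![1, 1, 1, 1], ![1, 1, -1, -1], ![1, -1, 1, -1], ![1, -1, -1, 1]]
theorem tE6c : TabOK chevE6 rE6c sE6c :=
  ⟨by decide +kernel, by decide +kernel, by decide +kernel, by decide +kernel⟩

/-- `E7a` -/
def rE7a : Fin 4 → Fin 4 → ℕ := ![![0, 93, 94, 95], ![32, 0, 73, 74], ![31, 52, 0, 69], ![30, 51, 56, 0]]
/-- signs -/
def sE7a : Fin 4 → Fin 4 → ℤ := ![![1, 1, 1, 1], ![1, 1, -1, -1], ![1, -1, 1, -1], ![1, -1, -1, 1]]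
theorem tE7a : TabOK chevE7 rE7a sE7a :=
  ⟨by decide +kernel, by decide +kernel, by decide +kernel, by decide +kernel⟩

/-- `E7b` -/
def rE7b : Fin 3 → Fin 3 → ℕ := ![![0, 64, 65], ![61, 0, 63], ![60, 62, 0]]
/-- signs -/
def sE7b : Fin 3 → Fin 3 → ℤ := ![![1, 1, 1], ![1, 1, -1], ![1, -1, 1]]
theorem tE7b : TabOK chevE7 rE7b sE7b :=
  ⟨by decide +kernel, by decide +kernel, by decide +kernel, by decide +kernel⟩

/-- `E8a` -/
def rE8a : Fin 4 → Fin 4 → ℕ := ![![0, 162, 163, 164], ![77, 0, 135, 136], ![76, 104, 0, 130], ![75, 103, 109, 0]]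
/-- signs -/
def sE8a : Fin 4 → Fin 4 → ℤ := ![![1, 1, 1, 1], ![1, 1, -1, -1], ![1, -1, 1, -1], ![1, -1, -1, 1]]
theorem tE8a : TabOK chevE8 rE8a sE8a :=
  ⟨by decide +kernel, by decide +kernel, by decide +kernel, by decide +kernel⟩

/-- `E8b` -/
def rE8b : Fin 3 → Fin 3 → ℕ := ![![0, 123, 124], ![116, 0, 121], ![115, 118, 0]]
/-- signs -/
def sE8b : Fin 3 → Fin 3 → ℤ := ![![1, 1, 1], ![1, 1, -1], ![1, -1, 1]]
theorem tE8b : TabOK chevE8 rE8b sE8b :=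
  ⟨by decide +kernel, by decide +kernel, by decide +kernel, by decide +kernel⟩

/-! ### eigenvectors -/

/-- partial products, cyclotomic polynomial 6 -/
def chainE66 : List (Fin 6 × Mat 6) := [(1, ![![1, 1, 1, 1, 0, 0], ![0, 0, 0, 1, 0, 0], ![0, -1, -1, -1, 0, 0], ![0, 1, 1, 1, 1, 0], ![0, -1, 0, -1, -1, 0], ![0, 1, 0, 1, 1, 1]]),
    (3, ![![1, 0, 1, 1, 0, 0], ![0, 1, 0, 1, 0, 0], ![0, 0, -1, -1, 0, 0], ![0, 0, 1, 1, 1, 0], ![0, 0, 0, -1, -1, 0], ![0, 0, 0, 1, 1, 1]]),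
    (2, ![![1, 0, 1, 0, 0, 0], ![0, 1, 0, 0, 0, 0], ![0, 0, -1, 0, 0, 0], ![0, 0, 1, 1, 1, 0], ![0, 0, 0, 0, -1, 0], ![0, 0, 0, 0, 1, 1]]),
    (4, ![![1, 0, 0, 0, 0, 0], ![0, 1, 0, 0, 0, 0], ![0, 0, 1, 0, 0, 0], ![0, 0, 0, 1, 1, 0], ![0, 0, 0, 0, -1, 0], ![0, 0, 0, 0, 1, 1]])]

theorem chainE66_ok : ChainOK PGE6.Am chainE66 := by decide +kernel

def VE66 : Fin 2 → Fin 6 → ℤ := ![![0, 0, -1, -1, -1, 0], ![0, -1, 0, -1, 0, 0]]

def UE66 : Fin 6 → ℤ := ![0, 0, -1, 0, 0, 0]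

theorem eigE66 : EigOK (hd chainE66) c6 VE66 UE66 := by decide +kernel

/-- partial products, cyclotomic polynomial 6 -/
def chainE76 : List (Fin 7 × Mat 7) := [(3, ![![1, 0, 1, 1, 0, 0, 0], ![0, -1, 0, -1, 0, 0, 0], ![0, 0, -1, -1, 0, 0, 0], ![0, 1, 1, 2, 1, 0, 0], ![0, 0, 0, -1, -1, 0, 0], ![0, 0, 0, 1, 1, 1, 0], ![0, 0, 0, 0, 0, 0, 1]]),
    (1, ![![1, 0, 1, 0, 0, 0, 0], ![0, -1, 0, 0, 0, 0, 0], ![0, 0, -1, 0, 0, 0, 0], ![0, 1, 1, 1, 1, 0, 0], ![0, 0, 0, 0, -1, 0, 0], ![0, 0, 0, 0, 1, 1, 0], ![0, 0, 0, 0, 0, 0, 1]]),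
    (2, ![![1, 0, 1, 0, 0, 0, 0], ![0, 1, 0, 0, 0, 0, 0], ![0, 0, -1, 0, 0, 0, 0], ![0, 0, 1, 1, 1, 0, 0], ![0, 0, 0, 0, -1, 0, 0], ![0, 0, 0, 0, 1, 1, 0], ![0, 0, 0, 0, 0, 0, 1]]),
    (4, ![![1, 0, 0, 0, 0, 0, 0], ![0, 1, 0, 0, 0, 0, 0], ![0, 0, 1, 0, 0, 0, 0], ![0, 0, 0, 1, 1, 0, 0], ![0, 0, 0, 0, -1, 0, 0], ![0, 0, 0, 0, 1, 1, 0], ![0, 0, 0, 0, 0, 0, 1]])]

theorem chainE76_ok : ChainOK PGE7.Am chainE76 := by decide +kernel

def VE76 : Fin 2 → Fin 7 → ℤ := ![![0, -1, -1, -1, -1, 0, 0], ![0, 0, 0, -1, 0, 0, 0]]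

def UE76 : Fin 7 → ℤ := ![0, -1, 0, 0, 0, 0, 0]

theorem eigE76 : EigOK (hd chainE76) c6 VE76 UE76 := by decide +kernel

/-- partial products, cyclotomic polynomial 8 -/
def chainE78 : List (Fin 7 × Mat 7) := [(1, ![![-1, -1, -1, -1, 0, 0, 0], ![0, 0, 0, 1, 0, 0, 0], ![1, 0, 0, 0, 0, 0, 0], ![0, 1, 1, 1, 1, 0, 0], ![0, -1, 0, -1, -1, 0, 0], ![0, 1, 0, 1, 1, 1, 0], ![0, 0, 0, 0, 0, 0, 1]]),
    (3, ![![-1, 0, -1, -1, 0, 0, 0], ![0, 1, 0, 1, 0, 0, 0], ![1, 0, 0, 0, 0, 0, 0], ![0, 0, 1, 1, 1, 0, 0], ![0, 0, 0, -1, -1, 0, 0], ![0, 0, 0, 1, 1, 1, 0], ![0, 0, 0, 0, 0, 0, 1]]),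
    (2, ![![-1, 0, -1, 0, 0, 0, 0], ![0, 1, 0, 0, 0, 0, 0], ![1, 0, 0, 0, 0, 0, 0], ![0, 0, 1, 1, 1, 0, 0], ![0, 0, 0, 0, -1, 0, 0], ![0, 0, 0, 0, 1, 1, 0], ![0, 0, 0, 0, 0, 0, 1]]),
    (4, ![![-1, 0, 0, 0, 0, 0, 0], ![0, 1, 0, 0, 0, 0, 0], ![1, 0, 1, 0, 0, 0, 0], ![0, 0, 0, 1, 1, 0, 0], ![0, 0, 0, 0, -1, 0, 0], ![0, 0, 0, 0, 1, 1, 0], ![0, 0, 0, 0, 0, 0, 1]]),
    (0, ![![-1, 0, 0, 0, 0, 0, 0], ![0, 1, 0, 0, 0, 0, 0], ![1, 0, 1, 0, 0, 0, 0], ![0, 0, 0, 1, 0, 0, 0], ![0, 0, 0, 0, 1, 0, 0], ![0, 0, 0, 0, 0, 1, 0], ![0, 0, 0, 0, 0, 0, 1]])]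

theorem chainE78_ok : ChainOK PGE7.Am chainE78 := by decide +kernel

def VE78 : Fin 4 → Fin 7 → ℤ := ![![0, 0, 1, 0, 0, 0, 0], ![0, 0, 0, 1, 1, 0, 0], ![1, 1, 1, 1, 0, 0, 0], ![-1, 0, 0, 0, 0, 0, 0]]

def UE78 : Fin 7 → ℤ := ![0, -1, 1, 0, 0, 0, 0]

theorem eigE78 : EigOK (hd chainE78) c8 VE78 UE78 := by decide +kernel


/-! ### numbers -/

/-- `3 ∣ q` or `3 ∣ q² - 1` and `9 ∣ q⁶ - 1` -/
theorem three_cases (q : ℕ) (hq : 2 ≤ q) : 3 ∣ q ∨ (3 ∣ q ^ 2 - 1 ∧ 9 ∣ q ^ 6 - 1) := by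
  by_cases h : 3 ∣ q
  · exact Or.inl h
  · right
    constructor
    · refine (Nat.modEq_iff_dvd' (Nat.one_le_pow _ _ (by omega))).1 ?_
      have : q % 3 = 1 ∨ q % 3 = 2 := by omega
      rcases this with h2 | h2 <;> simp [Nat.ModEq, Nat.pow_mod, h2]
    · refine (Nat.modEq_iff_dvd' (Nat.one_le_pow _ _ (by omega))).1 ?_
      have : q % 9 = 1 ∨ q % 9 = 2 ∨ q % 9 = 4 ∨ q % 9 = 5 ∨ q % 9 = 7 ∨ q % 9 = 8 := by omega
      rcases this with h2 | h2 | h2 | h2 | h2 | h2 <;> simp [Nat.ModEq, Nat.pow_mod, h2]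

theorem three_sub {q j : ℕ} (h : 3 ∣ q ^ 2 - 1) : 3 ∣ q ^ (2 * j) - 1 := by
  refine h.trans ?_
  rw [pow_mul]
  have := Nat.sub_dvd_pow_sub_pow (q ^ 2) 1 j
  rwa [one_pow] at this

theorem sub_dvd {q i j : ℕ} : q ^ i - 1 ∣ q ^ (i * j) - 1 := by
  rw [pow_mul]
  have := Nat.sub_dvd_pow_sub_pow (q ^ i) 1 j
  rwa [one_pow] at this

theorem dvd_f4 (q : ℕ) (hq : 2 ≤ q) : 27 ∣ q ^ 24 * (q ^ 2 - 1) * (q ^ 6 - 1) * (q ^ 8 - 1) * (q ^ 12 - 1) := by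
  rcases three_cases q hq with h | ⟨h1, h2⟩
  · have h3 : 27 ∣ q ^ 24 := ((show (27 : ℕ) = 3 ^ 3 by norm_num) ▸ pow_dvd_pow_of_dvd h 3).trans
      (pow_dvd_pow q (by norm_num))
    exact (((h3.mul_right _).mul_right _).mul_right _).mul_right _
  · have h3 : 27 ∣ (q ^ 2 - 1) * (q ^ 6 - 1) := mul_dvd_mul h1 h2
    have e : q ^ 24 * (q ^ 2 - 1) * (q ^ 6 - 1) * (q ^ 8 - 1) * (q ^ 12 - 1) =
      (q ^ 2 - 1) * (q ^ 6 - 1) * (q ^ 24 * (q ^ 8 - 1) * (q ^ 12 - 1)) := by ring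
    rw [e]; exact h3.mul_right _

theorem dvd_e6 (q : ℕ) (hq : 2 ≤ q) : 81 ∣ q ^ 36 * (q ^ 2 - 1) * (q ^ 5 - 1) * (q ^ 6 - 1) * (q ^ 8 - 1) *
    (q ^ 9 - 1) * (q ^ 12 - 1) := by
  rcases three_cases q hq with h | ⟨h1, h2⟩
  · have h3 : 81 ∣ q ^ 36 := ((show (81 : ℕ) = 3 ^ 4 by norm_num) ▸ pow_dvd_pow_of_dvd h 4).trans
      (pow_dvd_pow q (by norm_num))
    exact (((((h3.mul_right _).mul_right _).mul_right _).mul_right _).mul_right _).mul_right _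
  · have h3 : 81 ∣ (q ^ 2 - 1) * (q ^ 6 - 1) * (q ^ (2 * 4) - 1) := mul_dvd_mul (mul_dvd_mul h1 h2) (three_sub h1)
    have e : q ^ 36 * (q ^ 2 - 1) * (q ^ 5 - 1) * (q ^ 6 - 1) * (q ^ 8 - 1) * (q ^ 9 - 1) * (q ^ 12 - 1) =
      (q ^ 2 - 1) * (q ^ 6 - 1) * (q ^ (2 * 4) - 1) * (q ^ 36 * (q ^ 5 - 1) * (q ^ 9 - 1) * (q ^ 12 - 1)) := by ring
    rw [e]; exact h3.mul_right _

theorem dvd_e7 (q : ℕ) (hq : 2 ≤ q) : 27 ∣ q ^ 63 * (q ^ 2 - 1) * (q ^ 6 - 1) * (q ^ 8 - 1) * (q ^ 10 - 1) *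
    (q ^ 12 - 1) * (q ^ 14 - 1) * (q ^ 18 - 1) := by
  rcases three_cases q hq with h | ⟨h1, h2⟩
  · have h3 : 27 ∣ q ^ 63 := ((show (27 : ℕ) = 3 ^ 3 by norm_num) ▸ pow_dvd_pow_of_dvd h 3).trans
      (pow_dvd_pow q (by norm_num))
    exact ((((((h3.mul_right _).mul_right _).mul_right _).mul_right _).mul_right _).mul_right _).mul_right _
  · have h3 : 27 ∣ (q ^ 2 - 1) * (q ^ 6 - 1) := mul_dvd_mul h1 h2
    have e : q ^ 63 * (q ^ 2 - 1) * (q ^ 6 - 1) * (q ^ 8 - 1) * (q ^ 10 - 1) * (q ^ 12 - 1) * (q ^ 14 - 1) *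
        (q ^ 18 - 1) =
      (q ^ 2 - 1) * (q ^ 6 - 1) * (q ^ 63 * (q ^ 8 - 1) * (q ^ 10 - 1) * (q ^ 12 - 1) * (q ^ 14 - 1) *
        (q ^ 18 - 1)) := by ring
    rw [e]; exact h3.mul_right _

theorem dvd_e8 (q : ℕ) (hq : 2 ≤ q) : 27 ∣ q ^ 120 * (q ^ 2 - 1) * (q ^ 8 - 1) * (q ^ 12 - 1) * (q ^ 14 - 1) *
    (q ^ 18 - 1) * (q ^ 20 - 1) * (q ^ 24 - 1) * (q ^ 30 - 1) := by
  rcases three_cases q hq with h | ⟨h1, h2⟩
  · have h3 : 27 ∣ q ^ 120 := ((show (27 : ℕ) = 3 ^ 3 by norm_num) ▸ pow_dvd_pow_of_dvd h 3).trans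
      (pow_dvd_pow q (by norm_num))
    exact (((((((h3.mul_right _).mul_right _).mul_right _).mul_right _).mul_right _).mul_right _).mul_right _).mul_right _
  · have h3 : 27 ∣ (q ^ 2 - 1) * (q ^ (6 * 2) - 1) := mul_dvd_mul h1 (h2.trans sub_dvd)
    have e : q ^ 120 * (q ^ 2 - 1) * (q ^ 8 - 1) * (q ^ 12 - 1) * (q ^ 14 - 1) * (q ^ 18 - 1) * (q ^ 20 - 1) *
        (q ^ 24 - 1) * (q ^ 30 - 1) =
      (q ^ 2 - 1) * (q ^ (6 * 2) - 1) * (q ^ 120 * (q ^ 8 - 1) * (q ^ 14 - 1) * (q ^ 18 - 1) * (q ^ 20 - 1) *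
        (q ^ 24 - 1) * (q ^ 30 - 1)) := by ring
    rw [e]; exact h3.mul_right _

/-- small primes: `r ∣ |SL_3(q)|` -/
theorem dvd_sl3 {F : Type} [Field F] [Fintype F] {r : ℕ}
    (h : r ∣ Fintype.card F ∨ r ∣ Fintype.card F ^ 2 - 1 ∨ r ∣ Fintype.card F ^ 3 - 1) {n : ℕ} (hn : 3 ≤ n) :
    r ∣ Nat.card (SpecialLinearGroup (Fin n) F) := by
  rcases h with h | h | h
  · exact h.trans (q_dvd_card_sl (by omega))
  · exact h.trans (dvd_card_sl (j := 2) le_rfl (by omega))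
  · exact h.trans (dvd_card_sl (j := 3) (by norm_num) hn)

theorem not_dvd_of_five {r m : ℕ} (h5 : 5 ≤ r) (hm : 0 < m) (h : m < 5) : ¬ r ∣ m := fun h1 => by
  have := Nat.le_of_dvd hm h1
  omega

/-! ### `F₄(q)` -/

theorem no34_f4' (F : Type) [Field F] [Fintype F] : No34 ↥(Cfsg.Lie.chevF4.group F) := by
  haveI : Finite ↥(Cfsg.Lie.chevF4.group F) := inferInstance
  have hD := f4T.inList
  have hZ : ∀ (k : Type) [Field k] [IsAlgClosed k], center ↥(chevF4.group k) = ⊥ := fun k _ _ =>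
    center_eq_bot_of_simple (S1054.result chevF4 (by simp))
  refine no34_crit (q := Fintype.card F) Fintype.one_lt_card
    (exists_three hD (a := 33) (by decide +kernel) (by decide +kernel) tF4s (by decide +kernel) (by decide +kernel)) ?_ ?_ ?_ ?_
  · rw [S1062.result (F := F) rfl]; exact dvd_f4 _ Fintype.one_lt_card
  · intro r hr h5 h
    exact killAll_small hD (m := 2) le_rfl tF4l tF4s (by decide +kernel) hr (not_dvd_of_five h5 (by norm_num)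
      (by norm_num)) (dvd_sl3 h le_rfl)
  · intro r hr h5 _ hrq h4
    exact killAll_four f4T hD invC_F4 odd_one hZ tF4a (a := 33) (by decide +kernel) (by decide +kernel) (by decide +kernel)
      (by decide +kernel) hr h5 hrq h4
  · intro r hr h5 hd hrq ho
    exact killAll_of_order_pow f4T invC_F4 one_ne_zero hZ hr hrq hd (by rwa [pow_one])

/-! ### `E₈(q)` -/

theorem no34_e8' (F : Type) [Field F] [Fintype F] : No34 ↥(Cfsg.Lie.chevE8.group F) := by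
  haveI : Finite ↥(Cfsg.Lie.chevE8.group F) := inferInstance
  have hD := e8T.inList
  have hZ : ∀ (k : Type) [Field k] [IsAlgClosed k], center ↥(chevE8.group k) = ⊥ := fun k _ _ =>
    center_eq_bot_of_simple (S1054.result chevE8 (by simp))
  refine no34_crit (q := Fintype.card F) Fintype.one_lt_card
    (exists_three hD (a := 162) (by decide +kernel) (by decide +kernel) tE8b (by decide +kernel) (by decide +kernel)) ?_ ?_ ?_ ?_
  · rw [S1065.result (F := F) rfl]; exact dvd_e8 _ Fintype.one_lt_card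
  · intro r hr h5 h
    exact killAll_small hD (m := 3) (by norm_num) tE8a tE8b (by decide +kernel) hr (not_dvd_of_five h5 (by norm_num)
      (by norm_num)) (dvd_sl3 h (by norm_num))
  · intro r hr h5 _ hrq h4
    refine killAll_small hD (m := 3) (by norm_num) tE8a tE8b (by decide +kernel) hr (not_dvd_of_five h5 (by norm_num)
      (by norm_num)) ?_
    refine (dvd_sub_of_pow hr Fintype.one_lt_card (j := 4) ?_).trans (dvd_card_sl (F := F) (n := 4) (j := 4)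
      (by norm_num) le_rfl)
    rw [← h4]; exact pow_orderOf_eq_one _
  · intro r hr h5 hd hrq ho
    exact killAll_of_order_pow e8T invC_E8 one_ne_zero hZ hr hrq hd (by rwa [pow_one])

/-! ### `E₇(q)` -/

/-- the prime divides the value of a cyclotomic polynomial -/
theorem dvd_c6 {q r : ℕ} (hr : r.Prime) (ho : orderOf (q : ZMod r) = 6) : (r : ℤ) ∣ pv c6 q := by
  haveI : Fact r.Prime := ⟨hr⟩
  rw [pv_c6, ← ZMod.intCast_zmod_eq_zero_iff_dvd]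
  push_cast
  have h6 : (q : ZMod r) ^ 6 = 1 := by rw [← ho]; exact pow_orderOf_eq_one _
  have h3 : (q : ZMod r) ^ 3 ≠ 1 := fun h => by
    have := Nat.le_of_dvd (by norm_num) (orderOf_dvd_of_pow_eq_one h)
    omega
  have h2 : (q : ZMod r) ^ 2 ≠ 1 := fun h => by
    have := Nat.le_of_dvd (by norm_num) (orderOf_dvd_of_pow_eq_one h)
    omega
  have e : ((q : ZMod r) ^ 3 - 1) * (((q : ZMod r) + 1) * ((q : ZMod r) ^ 2 - q + 1)) = 0 := by
    linear_combination h6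
  rcases mul_eq_zero.1 e with h | h
  · exact absurd (sub_eq_zero.1 h) h3
  rcases mul_eq_zero.1 h with h | h
  · exfalso
    apply h2
    have : (q : ZMod r) = -1 := eq_neg_of_add_eq_zero_left h
    rw [this]; ring
  · exact h

theorem dvd_c8 {q r : ℕ} (hr : r.Prime) (ho : orderOf (q : ZMod r) = 8) : (r : ℤ) ∣ pv c8 q := by
  haveI : Fact r.Prime := ⟨hr⟩
  rw [pv_c8, ← ZMod.intCast_zmod_eq_zero_iff_dvd]
  push_cast
  have h8 : (q : ZMod r) ^ 8 = 1 := by rw [← ho]; exact pow_orderOf_eq_one _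
  have h4 : (q : ZMod r) ^ 4 ≠ 1 := fun h => by
    have := Nat.le_of_dvd (by norm_num) (orderOf_dvd_of_pow_eq_one h)
    omega
  have e : ((q : ZMod r) ^ 4 - 1) * ((q : ZMod r) ^ 4 + 1) = 0 := by
    linear_combination h8
  rcases mul_eq_zero.1 e with h | h
  · exact absurd (sub_eq_zero.1 h) h4
  · exact h

theorem dvd_c9 {q r : ℕ} (hr : r.Prime) (ho : orderOf (q : ZMod r) = 9) : (r : ℤ) ∣ pv c9 q := by
  haveI : Fact r.Prime := ⟨hr⟩
  rw [pv_c9, ← ZMod.intCast_zmod_eq_zero_iff_dvd]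
  push_cast
  have h8 : (q : ZMod r) ^ 9 = 1 := by rw [← ho]; exact pow_orderOf_eq_one _
  have h4 : (q : ZMod r) ^ 3 ≠ 1 := fun h => by
    have := Nat.le_of_dvd (by norm_num) (orderOf_dvd_of_pow_eq_one h)
    omega
  have e : ((q : ZMod r) ^ 3 - 1) * ((q : ZMod r) ^ 6 + (q : ZMod r) ^ 3 + 1) = 0 := by
    linear_combination h8
  rcases mul_eq_zero.1 e with h | h
  · exact absurd (sub_eq_zero.1 h) h4
  · exact h

theorem dvd_c12 {q r : ℕ} (hr : r.Prime) (ho : orderOf (q : ZMod r) = 12) : (r : ℤ) ∣ pv c12 q := by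
  haveI : Fact r.Prime := ⟨hr⟩
  rw [pv_c12, ← ZMod.intCast_zmod_eq_zero_iff_dvd]
  push_cast
  have h12 : (q : ZMod r) ^ 12 = 1 := by rw [← ho]; exact pow_orderOf_eq_one _
  have h6 : (q : ZMod r) ^ 6 ≠ 1 := fun h => by
    have := Nat.le_of_dvd (by norm_num) (orderOf_dvd_of_pow_eq_one h)
    omega
  have h4 : (q : ZMod r) ^ 4 ≠ 1 := fun h => by
    have := Nat.le_of_dvd (by norm_num) (orderOf_dvd_of_pow_eq_one h)
    omega
  have e : ((q : ZMod r) ^ 6 - 1) * (((q : ZMod r) ^ 2 + 1) * ((q : ZMod r) ^ 4 - (q : ZMod r) ^ 2 + 1)) = 0 := by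
    linear_combination h12
  rcases mul_eq_zero.1 e with h | h
  · exact absurd (sub_eq_zero.1 h) h6
  rcases mul_eq_zero.1 h with h | h
  · exfalso
    apply h4
    have : (q : ZMod r) ^ 2 = -1 := eq_neg_of_add_eq_zero_left h
    rw [show (q : ZMod r) ^ 4 = ((q : ZMod r) ^ 2) ^ 2 by ring, this]; ring
  · exact h

theorem no34_e7' (F : Type) [Field F] [Fintype F] : No34 ↥(Cfsg.Lie.chevE7.group F) := by
  haveI : Finite ↥(Cfsg.Lie.chevE7.group F) := inferInstance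
  have hD := e7T.inList
  have hZ : ∀ (k : Type) [Field k] [IsAlgClosed k], center ↥(chevE7.group k) = ⊥ := fun k _ _ =>
    center_eq_bot_of_simple (S1054.result chevE7 (by simp))
  refine no34_crit (q := Fintype.card F) Fintype.one_lt_card
    (exists_three hD (a := 93) (by decide +kernel) (by decide +kernel) tE7b (by decide +kernel) (by decide +kernel)) ?_ ?_ ?_ ?_
  · have h1 := dvd_e7 (Fintype.card F) Fintype.one_lt_card
    rw [← S1064.result (F := F) rfl] at h1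
    refine Nat.Coprime.dvd_of_dvd_mul_left ?_ h1
    exact Nat.Coprime.coprime_dvd_right (Nat.gcd_dvd_left _ _) (by norm_num)
  · intro r hr h5 h
    exact killAll_small hD (m := 3) (by norm_num) tE7a tE7b (by decide +kernel) hr (not_dvd_of_five h5 (by norm_num)
      (by norm_num)) (dvd_sl3 h (by norm_num))
  · intro r hr h5 _ hrq h4
    refine killAll_small hD (m := 3) (by norm_num) tE7a tE7b (by decide +kernel) hr (not_dvd_of_five h5 (by norm_num)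
      (by norm_num)) ?_
    refine (dvd_sub_of_pow hr Fintype.one_lt_card (j := 4) ?_).trans (dvd_card_sl (F := F) (n := 4) (j := 4)
      (by norm_num) le_rfl)
    rw [← h4]; exact pow_orderOf_eq_one _
  · intro r hr h5 hd hrq ho
    have hpos := order_pos hr hrq
    have hrd : ¬ r ∣ 2 := not_dvd_of_five h5 (by norm_num) (by norm_num)
    haveI := PGE7.finW
    by_cases h6 : orderOf (Fintype.card F : ZMod r) = 6
    · obtain ⟨x, u, hx, hu⟩ := conj_of_eig PGE7.hp CoxeterMatrix.E₇.toCoxeterSystem invC_E7 (by norm_num)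
        Cfsg.Agent.H129.PhiE.isPhi_E7 (F := F)
        (chain_rep PGE7.hp CoxeterMatrix.E₇.toCoxeterSystem PGE7.hA chainE76_ok) eigE76 hr hrd
        (by rw [Nat.card_eq_fintype_card]; exact dvd_c6 hr h6)
      exact killAll_of_order hx hu (by rw [Nat.card_eq_fintype_card]; exact ho)
    by_cases h8 : orderOf (Fintype.card F : ZMod r) = 8
    · obtain ⟨x, u, hx, hu⟩ := conj_of_eig PGE7.hp CoxeterMatrix.E₇.toCoxeterSystem invC_E7 (by norm_num)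
        Cfsg.Agent.H129.PhiE.isPhi_E7 (F := F)
        (chain_rep PGE7.hp CoxeterMatrix.E₇.toCoxeterSystem PGE7.hA chainE78_ok) eigE78 hr hrd
        (by rw [Nat.card_eq_fintype_card]; exact dvd_c8 hr h8)
      exact killAll_of_order hx hu (by rw [Nat.card_eq_fintype_card]; exact ho)
    refine killAll_of_order_pow e7T invC_E7 two_ne_zero hZ hr hrq hd ?_
    rw [orderOf_pow' _ (by norm_num)]
    obtain ⟨o, ho'⟩ : ∃ o, o = orderOf (Fintype.card F : ZMod r) := ⟨_, rfl⟩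
    rw [← ho'] at ho h6 h8 ⊢
    rcases Nat.even_or_odd o with he | hodd
    · obtain ⟨k, hk⟩ := he
      have e : Nat.gcd o 2 = 2 := Nat.gcd_eq_right ⟨k, by omega⟩
      rw [e]; omega
    · have e : Nat.gcd o 2 = 1 := (Nat.coprime_two_right.2 hodd)
      rw [e, Nat.div_one]; exact ho

/-! ### `E₆(q)` -/

theorem no34_e6' (F : Type) [Field F] [Fintype F] : No34 ↥(Cfsg.Lie.chevE6.group F) := by
  haveI : Finite ↥(Cfsg.Lie.chevE6.group F) := inferInstance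
  have hD := e6T.inList
  have hZ : ∀ (k : Type) [Field k] [IsAlgClosed k], center ↥(chevE6.group k) = ⊥ := fun k _ _ =>
    center_eq_bot_of_simple (S1054.result chevE6 (by simp))
  refine no34_crit (q := Fintype.card F) Fintype.one_lt_card
    (exists_three hD (a := 56) (by decide +kernel) (by decide +kernel) tE6b (by decide +kernel) (by decide +kernel)) ?_ ?_ ?_ ?_
  · have h1 := dvd_e6 (Fintype.card F) Fintype.one_lt_card
    rw [← S1063.result (F := F) rfl] at h1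
    obtain ⟨g, hg⟩ : ∃ g, g = Nat.gcd 3 (Fintype.card F - 1) := ⟨_, rfl⟩
    have hg3 : g ∣ 3 := hg ▸ Nat.gcd_dvd_left _ _
    rw [← hg] at h1
    rcases (Nat.dvd_prime Nat.prime_three).1 hg3 with h2 | h2
    · rw [h2, one_mul] at h1
      exact (show (27 : ℕ) ∣ 81 by norm_num).trans h1
    · rw [h2] at h1
      exact Nat.dvd_of_mul_dvd_mul_left (by norm_num : 0 < 3) ((show (3 * 27 : ℕ) = 81 by norm_num) ▸ h1)
  · intro r hr h5 h
    exact killAll_small hD (m := 2) (by norm_num) tE6a tE6b (by decide +kernel) hr (not_dvd_of_five h5 (by norm_num)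
      (by norm_num)) (dvd_sl3 h (by norm_num))
  · intro r hr h5 _ hrq h4
    exact killAll_four e6T hD invC_E6 (by decide) hZ tE6c (a := 36) (by decide +kernel) (by decide +kernel) (by decide +kernel)
      (by decide +kernel) hr h5 hrq h4
  · intro r hr h5 hd hrq ho
    have hpos := order_pos hr hrq
    have hrd : ¬ r ∣ 3 := not_dvd_of_five h5 (by norm_num) (by norm_num)
    haveI := PGE6.finW
    by_cases h6 : orderOf (Fintype.card F : ZMod r) = 6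
    · obtain ⟨x, u, hx, hu⟩ := conj_of_eig PGE6.hp CoxeterMatrix.E₆.toCoxeterSystem invC_E6 (by norm_num)
        Cfsg.Agent.H129.PhiE.isPhi_E6 (F := F)
        (chain_rep PGE6.hp CoxeterMatrix.E₆.toCoxeterSystem PGE6.hA chainE66_ok) eigE66 hr hrd
        (by rw [Nat.card_eq_fintype_card]; exact dvd_c6 hr h6)
      exact killAll_of_order hx hu (by rw [Nat.card_eq_fintype_card]; exact ho)
    by_cases h9 : orderOf (Fintype.card F : ZMod r) = 9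
    · obtain ⟨x, u, hx, hu⟩ := conj_of_eig PGE6.hp CoxeterMatrix.E₆.toCoxeterSystem invC_E6 (by norm_num)
        Cfsg.Agent.H129.PhiE.isPhi_E6 (F := F)
        (chain_rep PGE6.hp CoxeterMatrix.E₆.toCoxeterSystem PGE6.hA PGE6.chain9_ok) PGE6.eig9 hr hrd
        (by rw [Nat.card_eq_fintype_card]; exact dvd_c9 hr h9)
      exact killAll_of_order hx hu (by rw [Nat.card_eq_fintype_card]; exact ho)
    by_cases h12 : orderOf (Fintype.card F : ZMod r) = 12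
    · obtain ⟨x, u, hx, hu⟩ := conj_of_eig PGE6.hp CoxeterMatrix.E₆.toCoxeterSystem invC_E6 (by norm_num)
        Cfsg.Agent.H129.PhiE.isPhi_E6 (F := F)
        (chain_rep PGE6.hp CoxeterMatrix.E₆.toCoxeterSystem PGE6.hA PGE6.chain12_ok) PGE6.eig12 hr hrd
        (by rw [Nat.card_eq_fintype_card]; exact dvd_c12 hr h12)
      exact killAll_of_order hx hu (by rw [Nat.card_eq_fintype_card]; exact ho)
    refine killAll_of_order_pow e6T invC_E6 three_ne_zero hZ hr hrq hd ?_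
    rw [orderOf_pow' _ (by norm_num)]
    obtain ⟨o, ho'⟩ : ∃ o, o = orderOf (Fintype.card F : ZMod r) := ⟨_, rfl⟩
    rw [← ho'] at ho h6 h9 h12 ⊢
    by_cases h3 : 3 ∣ o
    · obtain ⟨k, hk⟩ := h3
      have e : Nat.gcd o 3 = 3 := Nat.gcd_eq_right ⟨k, hk⟩
      rw [e]; omega
    · have e : Nat.gcd o 3 = 1 := by
        rw [Nat.gcd_comm]
        exact (Nat.Prime.coprime_iff_not_dvd Nat.prime_three).2 h3
      rw [e, Nat.div_one]; exact ho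

end Cfsg.Agent.H744.Fx

namespace Cfsg.Agent.H254.Fx

/-- **the groups `F₄(q)`** (task 1408) -/
theorem no34_f4 (F : Type) [Field F] [Fintype F] : No34 ↥(Cfsg.Lie.chevF4.group F) := Cfsg.Agent.H744.Fx.no34_f4' F

/-- **the groups `E₆(q)`** (task 1409) -/
theorem no34_e6 (F : Type) [Field F] [Fintype F] : No34 ↥(Cfsg.Lie.chevE6.group F) := Cfsg.Agent.H744.Fx.no34_e6' F

/-- **the groups `E₇(q)`** (task 1410) -/
theorem no34_e7 (F : Type) [Field F] [Fintype F] : No34 ↥(Cfsg.Lie.chevE7.group F) := Cfsg.Agent.H744.Fx.no34_e7' F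

/-- **the groups `E₈(q)`** (task 1411) -/
theorem no34_e8 (F : Type) [Field F] [Fintype F] : No34 ↥(Cfsg.Lie.chevE8.group F) := Cfsg.Agent.H744.Fx.no34_e8' F

end Cfsg.Agent.H254.Fx
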