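import Cfsg.Agent.H744.Fx.Tab
import Cfsg.Agent.H696.GmnUntw
import Cfsg.Agent.H559.ChevConj

/-!
# Fixity 3 and 4, exceptional groups: criterion for the untwisted groups (helper744)
-/

set_option autoImplicit false
set_option linter.unusedSectionVars false
set_option linter.style.haveILetI false

namespace Cfsg.Agent.H744.Fx

open Matrix Subgroup Cfsg Cfsg.Lie CoxeterSystem
open Cfsg.Agent.ChevalleyStructure.Elts Cfsg.Agent.ChevalleyStructure.SL2Hom
  Cfsg.Agent.ChevalleyStructure.CoxeterGeom Cfsg.Agent.ChevalleyStructure.CoxeterGeomTypes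
  Cfsg.Agent.ChevalleyStructure.StBasic
open Cfsg.Agent.Nodes.RGDChev Cfsg.Agent.Tits.Roots
open Cfsg.Agent.H92.ExcSL2 (SL2 ph ph_eq_one ph_commute coe_ph phi_up phi_lo OrthB Orth4 commute_of_up_lo xG_commute
  orderOf_ph thr orderOf_thr wel wel_sq orderOf_wel)
open Cfsg.Agent.H254.Fx Cfsg.Agent.H493.PGTorus Cfsg.Agent.H129.TorusChar Cfsg.Agent.H129.StCover

universe u

/-! ### orders modulo `r` -/

section Ord

variable {q r : ℕ}

theorem dvd_sub_of_pow (_ : r.Prime) (hq : 2 ≤ q) {j : ℕ} (h : (q : ZMod r) ^ j = 1) : r ∣ q ^ j - 1 := by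
  have h1 : ((q ^ j : ℕ) : ZMod r) = ((1 : ℕ) : ZMod r) := by push_cast; exact h
  rw [ZMod.natCast_eq_natCast_iff] at h1
  exact (Nat.modEq_iff_dvd' (Nat.one_le_pow _ _ (by omega))).1 h1.symm

theorem pow_of_dvd_sub (hq : 2 ≤ q) {j : ℕ} (h : r ∣ q ^ j - 1) : (q : ZMod r) ^ j = 1 := by
  have h1 := (Nat.modEq_iff_dvd' (Nat.one_le_pow j q (by omega))).2 h
  have h2 := (ZMod.natCast_eq_natCast_iff _ _ _).2 h1.symm
  push_cast at h2
  exact h2

theorem order_pos (hr : r.Prime) (hrq : ¬ r ∣ q) : 0 < orderOf (q : ZMod r) := by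
  haveI : Fact r.Prime := ⟨hr⟩
  have h0 : (q : ZMod r) ≠ 0 := by rwa [Ne, ZMod.natCast_eq_zero_iff]
  exact Nat.pos_of_dvd_of_pos (orderOf_dvd_of_pow_eq_one (ZMod.pow_card_sub_one_eq_one h0)) (by
    have := hr.two_le; omega)

theorem order_cases (hr : r.Prime) (hq : 2 ≤ q) (hrq : ¬ r ∣ q) :
    r ∣ q ^ 2 - 1 ∨ r ∣ q ^ 3 - 1 ∨ orderOf (q : ZMod r) = 4 ∨ 5 ≤ orderOf (q : ZMod r) := by
  have hpos := order_pos hr hrq
  have h1 := pow_orderOf_eq_one (q : ZMod r)
  obtain ⟨o, ho⟩ : ∃ o, o = orderOf (q : ZMod r) := ⟨_, rfl⟩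
  rw [← ho] at hpos h1 ⊢
  have h : o = 1 ∨ o = 2 ∨ o = 3 ∨ o = 4 ∨ 5 ≤ o := by omega
  rcases h with rfl | rfl | rfl | rfl | h
  · left
    refine dvd_sub_of_pow hr hq ?_
    rw [pow_one] at h1
    rw [h1, one_pow]
  · exact Or.inl (dvd_sub_of_pow hr hq h1)
  · exact Or.inr (Or.inl (dvd_sub_of_pow hr hq h1))
  · exact Or.inr (Or.inr (Or.inl rfl))
  · exact Or.inr (Or.inr (Or.inr h))

theorem order_pow_coprime {x : ZMod r} {d : ℕ} (h : Nat.Coprime (orderOf x) d) : orderOf (x ^ d) = orderOf x :=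
  h.orderOf_pow

end Ord

/-- **The criterion.** -/
theorem no34_crit {G : Type*} [Group G] [Finite G] {q : ℕ} (hq : 2 ≤ q) (h3 : ∃ x : G, orderOf x = 3 ∧ Bad x)
    (h27 : 27 ∣ Nat.card G)
    (hs : ∀ r : ℕ, r.Prime → 5 ≤ r → (r ∣ q ∨ r ∣ q ^ 2 - 1 ∨ r ∣ q ^ 3 - 1) → KillAll r G)
    (h4 : ∀ r : ℕ, r.Prime → 5 ≤ r → r ∣ Nat.card G → ¬ r ∣ q → orderOf (q : ZMod r) = 4 → KillAll r G)
    (hb : ∀ r : ℕ, r.Prime → 5 ≤ r → r ∣ Nat.card G → ¬ r ∣ q → 5 ≤ orderOf (q : ZMod r) → KillAll r G) :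
    No34 G := by
  obtain ⟨x, hx, hbx⟩ := h3
  refine no34_of (fun _ => bad3_of_card hx hbx (Or.inl h27)) fun r hr h5 hd => Or.inl ?_
  by_cases hrq : r ∣ q
  · exact hs r hr h5 (Or.inl hrq)
  rcases order_cases hr hq hrq with h | h | h | h
  · exact hs r hr h5 (Or.inr (Or.inl h))
  · exact hs r hr h5 (Or.inr (Or.inr h))
  · exact h4 r hr h5 hd hrq h
  · exact hb r hr h5 hd hrq h

/-! ### an involution in the image of `SL_2` -/

section Inv

variable {D : ChevalleyDatum} {F : Type} [Field F] [Fintype F]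

theorem exists_invol (hD : InList D) {a : ℕ} (ha : a < D.nroots) : ∃ g : SL2 F, orderOf (ph hD ha g) = 2 := by
  haveI : Fact (Nat.Prime 2) := ⟨Nat.prime_two⟩
  by_cases h2 : (2 : F) = 0
  · refine ⟨up 1, orderOf_eq_prime ?_ ?_⟩
    · rw [← map_pow]
      have : (up (1 : F)) ^ 2 = 1 := by
        rw [sq]
        apply Subtype.ext
        show (up (1 : F)).1 * (up 1).1 = 1
        ext i j
        fin_cases i <;> fin_cases j <;> simp [up]
        rw [one_add_one_eq_two, h2]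
      rw [this, map_one]
    · intro h
      rcases ph_eq_one hD ha h with h1 | h1
      · have := congrArg (fun z : SL2 F => z.1 0 1) h1
        simp [up] at this
      · have := congrArg (fun z : SL2 F => z.1 0 1) h1
        simp [up] at this
  · by_cases h1 : ph hD ha (-1 : SL2 F) = 1
    · refine ⟨wel 1 one_ne_zero, orderOf_eq_prime ?_ ?_⟩
      · rw [← map_pow, sq, wel_sq, h1]
      · intro h
        rcases ph_eq_one hD ha h with h1 | h1
        · have := congrArg (fun z : SL2 F => z.1 0 1) h1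
          simp [wel] at this
        · have := congrArg (fun z : SL2 F => z.1 0 1) h1
          simp [wel] at this
    · refine ⟨-1, orderOf_eq_prime ?_ h1⟩
      rw [← map_pow, neg_one_sq, map_one]

end Inv

/-! ### conjugation -/

section Conj

variable {D : ChevalleyDatum} {l : ℕ} {M : CoxeterMatrix (Fin l)} (hp : IsType D l M)

include hp in
/-- elements of order `r` are conjugate to their `q ^ d`-th powers -/
theorem exists_conj {F : Type} [Field F] [Fintype F] {d : ℕ} {B : Fin l → Fin l → ℤ} (hB : InvC D l d B) (hd : d ≠ 0)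
    (hZ : ∀ (k : Type) [Field k] [IsAlgClosed k], center ↥(D.group k) = ⊥)
    {r : ℕ} (hr : r.Prime) (hrq : ¬ r ∣ Fintype.card F) {z : ↥(D.group F)} (hz : orderOf z = r) :
    ∃ u, u * z * u⁻¹ = z ^ (Fintype.card F ^ d) := by
  obtain ⟨c, hc⟩ := CharP.exists F
  haveI hcp : Fact c.Prime := ⟨CharP.char_is_prime F c⟩
  have hrc : r ≠ c := by
    rintro rfl
    obtain ⟨n, -, hn⟩ := FiniteField.card F r
    exact hrq (hn ▸ dvd_pow_self r n.2.ne')
  have h := H696.GmnUntw.isConj_pow hp hB hd (hZ (AlgebraicClosure (ZMod c))) hr hrc (z := z)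
    (by rw [← hz]; exact pow_orderOf_eq_one z)
  exact isConj_iff.1 h

include hp in
/-- `r` is killed if the order of `q ^ d` modulo `r` is at least 5 -/
theorem killAll_of_order_pow {F : Type} [Field F] [Fintype F] {d : ℕ} {B : Fin l → Fin l → ℤ} (hB : InvC D l d B)
    (hd : d ≠ 0) (hZ : ∀ (k : Type) [Field k] [IsAlgClosed k], center ↥(D.group k) = ⊥)
    {r : ℕ} (hr : r.Prime) (hrq : ¬ r ∣ Fintype.card F) (hrG : r ∣ Nat.card ↥(D.group F))
    (h5 : 5 ≤ orderOf ((Fintype.card F : ZMod r) ^ d)) : KillAll r ↥(D.group F) := by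
  haveI : Finite ↥(D.group F) := inferInstance
  haveI : Fact r.Prime := ⟨hr⟩
  obtain ⟨z, hz⟩ := exists_prime_orderOf_dvd_card' r hrG
  obtain ⟨u, hu⟩ := exists_conj hp hB hd hZ hr hrq hz
  refine killAll_of_order hz hu ?_
  rwa [Nat.cast_pow]

include hp in
/-- `r` is killed if `q` has order 4 modulo `r` -/
theorem killAll_four (hD : InList D) {F : Type} [Field F] [Fintype F] {d : ℕ} {B : Fin l → Fin l → ℤ}
    (hB : InvC D l d B) (hd : Odd d) (hZ : ∀ (k : Type) [Field k] [IsAlgClosed k], center ↥(D.group k) = ⊥)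
    {rr : Fin 4 → Fin 4 → ℕ} {ss : Fin 4 → Fin 4 → ℤ} (T : TabOK D rr ss) {a : ℕ} (har : a < D.nroots)
    (har' : D.neg a < D.nroots) (h : ∀ k l, k ≠ l → OrthB D a (rr k l) = true)
    (h' : ∀ k l, k ≠ l → OrthB D (D.neg a) (rr k l) = true)
    {r : ℕ} (hr : r.Prime) (hr5 : 5 ≤ r) (hrq : ¬ r ∣ Fintype.card F)
    (h4 : orderOf (Fintype.card F : ZMod r) = 4) : KillAll r ↥(D.group F) := by
  haveI : Finite ↥(D.group F) := inferInstance
  haveI : Fact r.Prime := ⟨hr⟩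
  obtain ⟨π, hπ, hker⟩ := exists_sl (F := F) hD (m := 3) (by norm_num) T
  have hdvd : r ∣ Nat.card (SpecialLinearGroup (Fin 4) F) := by
    refine (dvd_sub_of_pow hr Fintype.one_lt_card (j := 4) ?_).trans (dvd_card_sl (F := F) (n := 4) (j := 4) (by norm_num)
      le_rfl)
    rw [← h4]; exact pow_orderOf_eq_one _
  obtain ⟨x, hx⟩ := exists_prime_orderOf_dvd_card' r hdvd
  have hπx : orderOf (π x) = r := orderOf_map hr (fun h => by
    have := Nat.le_of_dvd (by norm_num) h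
    omega) hker hx
  obtain ⟨u, hu⟩ := exists_conj hp hB hd.pos.ne' hZ hr hrq hπx
  obtain ⟨g, hg⟩ := exists_invol (F := F) hD har
  refine killAll_of_bad hπx (bad_of_four hr hπx hu ?_ hg ?_)
  · rw [Nat.cast_pow, order_pow_coprime]
    · rw [h4]
    · rw [h4, show (4 : ℕ) = 2 ^ 2 by norm_num]
      exact Nat.Coprime.pow_left 2 (Nat.coprime_two_left.2 hd)
  · exact (comm_ph hD har har' T.a h h' hπ g x).symm

/-- **conjugation by the torus normalizer** -/
theorem conj_of_eig {W : Type*} [Group W] [Finite W] (cs : CoxeterSystem M W)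
    {d : ℕ} {B : Fin l → Fin l → ℤ} (hB : InvC D l d B) (hd : d ≠ 0)
    (hPhi : ∀ (k : Type u) [Field k], ∃ Φ : (Fin D.rank → kˣ) →* D.SteinbergGroup k, IsPhi Φ)
    {F : Type u} [Field F] [Finite F] {w : W} {Th : Fin l → Fin l → ℤ}
    (hw : ∀ j, rep cs hp.isCartan w (sr j) = Th j) {f : ℕ} {c : Fin (f + 1) → ℤ} {V : Fin (f + 1) → Fin l → ℤ}
    {U : Fin l → ℤ} (h : EigOK Th c V U) {r : ℕ} (hr : r.Prime) (hrd : ¬ r ∣ d) (h1 : (r : ℤ) ∣ pv c (Nat.card F)) :
    ∃ x u : ↥(D.group F), orderOf x = r ∧ u * x * u⁻¹ = x ^ Nat.card F := by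
  obtain ⟨φ, hφ, hact⟩ := H559.ChevConj.exists_hom_act hp cs hB hd hPhi (F := F) w
  have hq : (2 : ℤ) ≤ (Nat.card F : ℤ) := by
    exact_mod_cast Finite.one_lt_card
  have hwn : (rep cs hp.isCartan w) ^ Nat.card W = 1 := by
    rw [← map_pow, pow_card_eq_one', map_one]
  obtain ⟨x, hx⟩ := exists_order (rep_apply_eq hp cs hw) Nat.card_pos hwn h hq hr h1
  obtain ⟨u, hu⟩ := hact w (Nat.card F : ℤ) (Commute.refl w) (fun x => ⟨x, rfl⟩)
  haveI : Fact r.Prime := ⟨hr⟩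
  refine ⟨φ x, u, orderOf_eq_prime ?_ ?_, ?_⟩
  · rw [← map_pow, ← hx, pow_orderOf_eq_one, map_one]
  · intro h0
    exact hrd (hx ▸ orderOf_dvd_of_pow_eq_one (hφ x h0))
  · rw [hu x, zpow_natCast]

end Conj

end Cfsg.Agent.H744.Fx
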