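import Cfsg.Agent.H254.FxTools
import Cfsg.Agent.H92.ExcSL2
import Cfsg.Agent.H120.SLHom
import Cfsg.Agent.H807.Fx.SLTools
import Cfsg.Agent.S0242

/-!
# Fixity 3 and 4, exceptional groups: subsystem subgroups of type `A` (helper744)

* `exists_sl` : the homomorphism `SL_{m+1}(F) → D.group F` of a table;
* `exists_small` : commuting elements of order `r` and subgroups of order divisible by 8 from two orthogonal tables;
* `no34_crit` : the criterion for the untwisted groups.
-/

set_option autoImplicit false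
set_option linter.unusedSectionVars false
set_option linter.style.haveILetI false

namespace Cfsg.Agent.H744.Fx

open Matrix Subgroup Cfsg Cfsg.Lie
open Cfsg.Agent.ChevalleyStructure.Elts Cfsg.Agent.ChevalleyStructure.SL2Hom
open Cfsg.Agent.TitsThree.KExcBase Cfsg.Agent.TitsThree.KExcRT Cfsg.Agent.AGraded
open Cfsg.Agent.H92.ExcSL2 (SL2 ph ph_eq_one ph_commute coe_ph phi_up phi_lo OrthB Orth4 commute_of_up_lo xG_commute
  orderOf_ph thr orderOf_thr)
open Cfsg.Agent.H254.Fx

/-! ### `SL_n(q)` -/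

section SL

variable {F : Type} [Field F] [Fintype F]

theorem card_pred_pos : 0 < Fintype.card F - 1 := by
  have : 1 < Fintype.card F := Fintype.one_lt_card
  omega

/-- `q (q ^ j - 1)` divides `|SL_n(q)|` for `2 ≤ j ≤ n` -/
theorem dvd_card_sl {n j : ℕ} (h2 : 2 ≤ j) (hj : j ≤ n) :
    Fintype.card F ^ j - 1 ∣ Nat.card (SpecialLinearGroup (Fin n) F) := by
  have h := Cfsg.Agent.S0242.result (F := F) rfl n (by omega)
  set q := Fintype.card F with hq
  have hq2 : 2 ≤ q := Fintype.one_lt_card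
  -- the two factors `q^n - q^(n-j)` and another one
  have hfac : ∀ i : Fin n, q ^ n - q ^ (i : ℕ) = q ^ (i : ℕ) * (q ^ (n - i) - 1) := by
    intro i
    rw [Nat.mul_sub, mul_one, ← pow_add]
    congr 2
    have := i.2
    omega
  have h1 : ∀ m : ℕ, q - 1 ∣ q ^ m - 1 := fun m => by
    have := Nat.sub_dvd_pow_sub_pow q 1 m
    rwa [one_pow] at this
  -- the index `n - j` and the index `n - 1` are different
  let a : Fin n := ⟨n - j, by omega⟩
  let b : Fin n := ⟨n - 1, by omega⟩
  have hab : a ≠ b := by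
    intro h3
    have := congrArg Fin.val h3
    simp only [a, b] at this
    omega
  have h4 : (q ^ j - 1) * (q - 1) ∣ ∏ i : Fin n, (q ^ n - q ^ (i : ℕ)) := by
    rw [← Finset.mul_prod_erase Finset.univ _ (Finset.mem_univ a)]
    refine mul_dvd_mul ?_ ?_
    · rw [hfac a]
      have : n - (a : ℕ) = j := by simp only [a]; omega
      rw [this]
      exact dvd_mul_left _ _
    · rw [← Finset.mul_prod_erase (Finset.univ.erase a) _ (Finset.mem_erase.2 ⟨hab.symm, Finset.mem_univ b⟩)]
      refine Dvd.dvd.mul_right ?_ _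
      rw [hfac b]
      exact (h1 _).mul_left _
  rw [← h, mul_comm] at h4
  exact Nat.dvd_of_mul_dvd_mul_left card_pred_pos h4

/-- `q` divides `|SL_n(q)|` for `2 ≤ n` -/
theorem q_dvd_card_sl {n : ℕ} (h2 : 2 ≤ n) : Fintype.card F ∣ Nat.card (SpecialLinearGroup (Fin n) F) := by
  have h := Cfsg.Agent.S0242.result (F := F) rfl n (by omega)
  set q := Fintype.card F with hq
  have hq2 : 2 ≤ q := Fintype.one_lt_card
  let b : Fin n := ⟨1, by omega⟩
  have h4 : q ∣ ∏ i : Fin n, (q ^ n - q ^ (i : ℕ)) := by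
    rw [← Finset.mul_prod_erase Finset.univ _ (Finset.mem_univ b)]
    refine Dvd.dvd.mul_right ?_ _
    exact Nat.dvd_sub (dvd_pow_self q (by omega)) (by simp [b])
  rw [← h] at h4
  have hco : Nat.Coprime q (q - 1) := (Nat.coprime_self_sub_right (by omega)).2 (Nat.coprime_one_right q)
  exact hco.dvd_of_dvd_mul_left h4

theorem center_pow {n : ℕ} {x : SpecialLinearGroup (Fin n) F}
    (hx : x ∈ Subgroup.center (SpecialLinearGroup (Fin n) F)) : x ^ n = 1 := by
  obtain ⟨c, hc, hc'⟩ := Matrix.SpecialLinearGroup.mem_center_iff.1 hx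
  rw [Fintype.card_fin] at hc
  have h1 : ((x ^ n : SpecialLinearGroup (Fin n) F) : Matrix (Fin n) (Fin n) F) = 1 := by
    rw [Matrix.SpecialLinearGroup.coe_pow, ← hc', ← map_pow, hc, map_one]
  exact Subtype.ext h1

variable {G : Type*} [Group G]

/-- orders of images -/
theorem orderOf_map {n r : ℕ} (hr : r.Prime) (hrn : ¬ r ∣ n) {π : SpecialLinearGroup (Fin n) F →* G}
    (hker : π.ker ≤ Subgroup.center (SpecialLinearGroup (Fin n) F)) {x : SpecialLinearGroup (Fin n) F}
    (hx : orderOf x = r) : orderOf (π x) = r := by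
  haveI : Fact r.Prime := ⟨hr⟩
  refine orderOf_eq_prime ?_ ?_
  · rw [← map_pow, ← hx, pow_orderOf_eq_one, map_one]
  · intro h
    apply hrn
    rw [← hx]
    exact orderOf_dvd_of_pow_eq_one (center_pow (hker (MonoidHom.mem_ker.2 h)))

/-- the image of `SL_3(q)` has order divisible by 8 -/
theorem eight_dvd_range {π : SpecialLinearGroup (Fin 3) F →* G}
    (hker : π.ker ≤ Subgroup.center (SpecialLinearGroup (Fin 3) F)) : 8 ∣ Nat.card π.range := by
  have h8 := H807.Fx.eight_dvd_SL (F := F) (k := 3) le_rfl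
  have hk : Nat.Coprime 8 (Nat.card π.ker) := by
    have h2 : Nat.Coprime 2 (Nat.card π.ker) := by
      rw [Nat.prime_two.coprime_iff_not_dvd]
      intro h2
      haveI : Fact (Nat.Prime 2) := ⟨Nat.prime_two⟩
      obtain ⟨x, hx⟩ := exists_prime_orderOf_dvd_card' 2 h2
      have h3 : (x : SpecialLinearGroup (Fin 3) F) ^ 3 = 1 := center_pow (hker x.2)
      have h4 := orderOf_dvd_of_pow_eq_one h3
      rw [Subgroup.orderOf_coe, hx] at h4
      revert h4; decide
    have := Nat.Coprime.pow_left 3 h2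
    simpa using this
  have h1 : Nat.card π.range * Nat.card π.ker = Nat.card (SpecialLinearGroup (Fin 3) F) := by
    rw [← Subgroup.card_mul_index π.ker, Subgroup.index_ker, mul_comm]
  rw [← h1] at h8
  exact hk.dvd_of_dvd_mul_right h8

end SL

/-! ### tables -/

section Tab

variable {D : ChevalleyDatum} {F : Type} [Field F] [Fintype F]

/-- the tables -/
structure TabOK (D : ChevalleyDatum) {n : ℕ} (r : Fin n → Fin n → ℕ) (s : Fin n → Fin n → ℤ) : Prop where
  a : RTa D r
  b : RTb D r s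
  c : RTc D r
  d : RTd s

/-- the homomorphism of a subsystem of type `A` -/
theorem exists_sl (hD : InList D) {m : ℕ} (hm : 2 ≤ m) {r : Fin (m + 1) → Fin (m + 1) → ℕ}
    {s : Fin (m + 1) → Fin (m + 1) → ℤ} (T : TabOK D r s) :
    ∃ π : SpecialLinearGroup (Fin (m + 1)) F →* ↥(D.group F),
    (∀ i j (hij : i ≠ j) a, ((π (SpecialLinearGroup.transvection hij a) : ↥(D.group F)) : GL D.Idx F) =
      xG hD (r i j) ((s i j : F) * a)) ∧
    π.ker ≤ Subgroup.center (SpecialLinearGroup (Fin (m + 1)) F) := by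
  classical
  haveI : Nontrivial (Fin (m + 1)) := Fin.nontrivial_iff_two_le.2 (by omega)
  have hS := stein (F := F) hD T.a T.b T.c T.d
  obtain ⟨π, hπ, _, hker⟩ := Cfsg.Agent.H120.SLHom.exists_hom hm hS
  have hmem : ∀ g, π g ∈ D.group F := by
    intro g
    refine Cfsg.Agent.LieClassical.SLGen.transvection_induction (fun g => π g ∈ D.group F) ?_ ?_ g
    · intro i j hij c
      rw [hπ i j hij]
      exact xG_mem_group hD _ _
    · intro A B hA hB
      rw [map_mul]
      exact mul_mem hA hB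
  refine ⟨π.codRestrict (D.group F) hmem, fun i j hij a => ?_, ?_⟩
  · exact hπ i j hij a
  · intro g hg
    have h01 : (⟨0, by omega⟩ : Fin (m + 1)) ≠ ⟨1, by omega⟩ := by
      intro h
      have := congrArg Fin.val h
      simp at this
    refine hker ⟨_, _, h01, ((s ⟨0, by omega⟩ ⟨1, by omega⟩ : ℤ) : F), ?_⟩ ?_
    · intro h
      have h1 := (xG_eq_one_iff hD (T.a _ _ h01) _).1 h
      rw [← Int.cast_mul, T.d, Int.cast_one] at h1
      exact one_ne_zero h1
    · exact congrArg Subtype.val hg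

theorem comm_sl (hD : InList D) {n n' : ℕ} [Nontrivial (Fin n)] [Nontrivial (Fin n')] {r : Fin n → Fin n → ℕ}
    {s : Fin n → Fin n → ℤ} {r' : Fin n' → Fin n' → ℕ} {s' : Fin n' → Fin n' → ℤ} (ha : RTa D r) (ha' : RTa D r')
    (h : ∀ i j, i ≠ j → ∀ k l, k ≠ l → OrthB D (r i j) (r' k l) = true)
    {π : SpecialLinearGroup (Fin n) F →* ↥(D.group F)} {π' : SpecialLinearGroup (Fin n') F →* ↥(D.group F)}
    (hπ : ∀ i j (hij : i ≠ j) a, ((π (SpecialLinearGroup.transvection hij a) : ↥(D.group F)) : GL D.Idx F) =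
      xG hD (r i j) ((s i j : F) * a))
    (hπ' : ∀ i j (hij : i ≠ j) a, ((π' (SpecialLinearGroup.transvection hij a) : ↥(D.group F)) : GL D.Idx F) =
      xG hD (r' i j) ((s' i j : F) * a)) (x : SpecialLinearGroup (Fin n) F) (y : SpecialLinearGroup (Fin n') F) :
    π' y * π x = π x * π' y := by
  apply Subtype.ext
  show (π' y : GL D.Idx F) * (π x : GL D.Idx F) = (π x : GL D.Idx F) * (π' y : GL D.Idx F)
  symm
  refine Cfsg.Agent.LieClassical.SLGen.transvection_induction
    (fun x => (π x : GL D.Idx F) * (π' y : GL D.Idx F) = (π' y : GL D.Idx F) * (π x : GL D.Idx F)) ?_ ?_ x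
  · intro i j hij c
    rw [hπ i j hij]
    refine Cfsg.Agent.LieClassical.SLGen.transvection_induction
      (fun y => xG hD (r i j) ((s i j : F) * c) * (π' y : GL D.Idx F) =
        (π' y : GL D.Idx F) * xG hD (r i j) ((s i j : F) * c)) ?_ ?_ y
    · intro k l hkl d
      rw [hπ' k l hkl]
      exact xG_commute hD (ha i j hij) (ha' k l hkl) (h i j hij k l hkl) _ _
    · intro A B hA hB
      rw [map_mul, Subgroup.coe_mul, ← mul_assoc, hA, mul_assoc, hB, ← mul_assoc]
  · intro A B hA hB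
    rw [map_mul, Subgroup.coe_mul, mul_assoc, hB, ← mul_assoc, hA, mul_assoc]

theorem comm_ph (hD : InList D) {a : ℕ} (har : a < D.nroots) (har' : D.neg a < D.nroots) {n' : ℕ} [Nontrivial (Fin n')]
    {r' : Fin n' → Fin n' → ℕ} {s' : Fin n' → Fin n' → ℤ} (ha' : RTa D r')
    (h : ∀ k l, k ≠ l → OrthB D a (r' k l) = true) (h' : ∀ k l, k ≠ l → OrthB D (D.neg a) (r' k l) = true)
    {π' : SpecialLinearGroup (Fin n') F →* ↥(D.group F)}
    (hπ' : ∀ i j (hij : i ≠ j) a, ((π' (SpecialLinearGroup.transvection hij a) : ↥(D.group F)) : GL D.Idx F) =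
      xG hD (r' i j) ((s' i j : F) * a)) (x : SL2 F) (y : SpecialLinearGroup (Fin n') F) :
    π' y * ph hD har x = ph hD har x * π' y := by
  refine (commute_of_up_lo (ph hD har) (π' y) (fun t => ?_) (fun t => ?_) x).symm
  · apply Subtype.ext
    show (ph hD har (up t) : GL D.Idx F) * (π' y : GL D.Idx F) = (π' y : GL D.Idx F) * (ph hD har (up t) : GL D.Idx F)
    rw [coe_ph, phi_up hD har]
    refine Cfsg.Agent.LieClassical.SLGen.transvection_induction
      (fun y => xG hD a t * (π' y : GL D.Idx F) = (π' y : GL D.Idx F) * xG hD a t) ?_ ?_ y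
    · intro k l hkl d
      rw [hπ' k l hkl]
      exact xG_commute hD har (ha' k l hkl) (h k l hkl) _ _
    · intro A B hA hB
      rw [map_mul, Subgroup.coe_mul, ← mul_assoc, hA, mul_assoc, hB, ← mul_assoc]
  · apply Subtype.ext
    show (ph hD har (lo t) : GL D.Idx F) * (π' y : GL D.Idx F) = (π' y : GL D.Idx F) * (ph hD har (lo t) : GL D.Idx F)
    rw [coe_ph, phi_lo hD har]
    refine Cfsg.Agent.LieClassical.SLGen.transvection_induction
      (fun y => xG hD (D.neg a) t * (π' y : GL D.Idx F) = (π' y : GL D.Idx F) * xG hD (D.neg a) t) ?_ ?_ y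
    · intro k l hkl d
      rw [hπ' k l hkl]
      exact xG_commute hD har' (ha' k l hkl) (h' k l hkl) _ _
    · intro A B hA hB
      rw [map_mul, Subgroup.coe_mul, ← mul_assoc, hA, mul_assoc, hB, ← mul_assoc]

/-- **An element of order 3 commuting with a subgroup of order divisible by 8.** -/
theorem exists_three (hD : InList D) {a : ℕ} (har : a < D.nroots) (har' : D.neg a < D.nroots)
    {r' : Fin 3 → Fin 3 → ℕ} {s' : Fin 3 → Fin 3 → ℤ} (T' : TabOK D r' s')
    (h : ∀ k l, k ≠ l → OrthB D a (r' k l) = true) (h' : ∀ k l, k ≠ l → OrthB D (D.neg a) (r' k l) = true) :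
    ∃ x : ↥(D.group F), orderOf x = 3 ∧ Bad x := by
  haveI : Finite ↥(D.group F) := inferInstance
  obtain ⟨π', hπ', hker'⟩ := exists_sl (F := F) hD (m := 2) le_rfl T'
  refine ⟨ph hD har (thr F), ?_, bad_of_comm_eight (Y := π'.range) ?_ (eight_dvd_range hker')⟩
  · rw [orderOf_ph _ _ _ (by rw [orderOf_thr]; decide), orderOf_thr]
  · rintro _ ⟨y, rfl⟩
    exact comm_ph hD har har' T'.a h h' hπ' (thr F) y

/-- **Small primes.** -/
theorem killAll_small (hD : InList D) {m : ℕ} (hm : 2 ≤ m) {r : Fin (m + 1) → Fin (m + 1) → ℕ}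
    {s : Fin (m + 1) → Fin (m + 1) → ℤ} (T : TabOK D r s)
    {r' : Fin 3 → Fin 3 → ℕ} {s' : Fin 3 → Fin 3 → ℤ} (T' : TabOK D r' s')
    (h : ∀ i j, i ≠ j → ∀ k l, k ≠ l → OrthB D (r i j) (r' k l) = true) {t : ℕ} (ht : t.Prime) (htm : ¬ t ∣ m + 1)
    (hd : t ∣ Nat.card (SpecialLinearGroup (Fin (m + 1)) F)) : KillAll t ↥(D.group F) := by
  haveI : Finite ↥(D.group F) := inferInstance
  haveI : Fact t.Prime := ⟨ht⟩
  haveI : Nontrivial (Fin (m + 1)) := Fin.nontrivial_iff_two_le.2 (by omega)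
  obtain ⟨π, hπ, hker⟩ := exists_sl (F := F) hD hm T
  obtain ⟨π', hπ', hker'⟩ := exists_sl (F := F) hD (m := 2) le_rfl T'
  obtain ⟨x, hx⟩ := exists_prime_orderOf_dvd_card' t hd
  refine killAll_of_bad (orderOf_map ht htm hker hx) (bad_of_comm_eight (Y := π'.range) ?_ (eight_dvd_range hker'))
  rintro _ ⟨y, rfl⟩
  exact comm_sl hD T.a T'.a h hπ hπ' x y

end Tab

end Cfsg.Agent.H744.Fx
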