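import Cfsg.Agent.H744.Fx.Crit
import Cfsg.Agent.H807.Fx.Nine
import Cfsg.Agent.H783.ExoX2

/-!
# Fixity 3 and 4, `²E₆(q)`, I: `SL₃(q²)` commuting with `SL₂(q)` (helper744)

* `exists_pi` : the homomorphism `SL₃(q²) → ²E₆(q)` of the roots `α₁, α₃` and `α₆, α₅`;
* `exists_data` : commuting `SL₃(q²)`, `SL₂(q)`;
* `exists_bad_three`, `killAll_small_tw`.
-/

set_option autoImplicit false
set_option linter.unusedSectionVars false
set_option linter.style.haveILetI false

namespace Cfsg.Agent.H744.Fx.TwE6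

open Matrix Subgroup Cfsg Cfsg.Lie Cfsg.Lie.ChevalleyDatum
open Cfsg.Agent.ChevalleyStructure Cfsg.Agent.ChevalleyStructure.Elts Cfsg.Agent.ChevalleyStructure.CoxeterGeom
  Cfsg.Agent.ChevalleyStructure.SL2Rep Cfsg.Agent.ChevalleyStructure.SL2Hom
open Cfsg.Agent.TitsThree.KExcBase Cfsg.Agent.TitsThree.KExcRT Cfsg.Agent.AGraded
open Cfsg.Agent.H92.ExcSL2 (SL2 ph ph_eq_one ph_commute coe_ph phi_up phi_lo OrthB Orth4 commute_of_up_lo xG_commute
  orderOf_ph thr orderOf_thr wel wel_sq orderOf_wel ph_injective)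
open Cfsg.Agent.H254.Fx Cfsg.Agent.H807.Fx
open Cfsg.Agent.H783.ExoX2 Cfsg.Agent.H343 Cfsg.Agent.ETable.Exc
open scoped commutatorElement

/-- roots `α₁, α₃` -/
def rA : Fin 3 → Fin 3 → ℕ := ![![0, 56, 57], ![15, 0, 42], ![14, 29, 0]]
/-- signs -/
def sA : Fin 3 → Fin 3 → ℤ := ![![1, 1, 1], ![1, 1, -1], ![1, -1, 1]]
theorem tA : TabOK chevE6 rA sA :=
  ⟨by decide +kernel, by decide +kernel, by decide +kernel, by decide +kernel⟩

/-- roots `α₆, α₅` -/
def rB : Fin 3 → Fin 3 → ℕ := ![![0, 36, 38], ![35, 0, 37], ![33, 34, 0]]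
/-- signs -/
def sB : Fin 3 → Fin 3 → ℤ := ![![1, 1, -1], ![1, 1, -1], ![-1, -1, 1]]
theorem tB : TabOK chevE6 rB sB :=
  ⟨by decide +kernel, by decide +kernel, by decide +kernel, by decide +kernel⟩

theorem orthAB : ∀ i j, i ≠ j → ∀ k l, k ≠ l → OrthB chevE6 (rA i j) (rB k l) = true := by decide +kernel
theorem orthA46 : ∀ i j, i ≠ j → OrthB chevE6 (rA i j) 46 = true ∧ OrthB chevE6 (rA i j) 25 = true := by
  decide +kernel
theorem orthB46 : ∀ i j, i ≠ j → OrthB chevE6 (rB i j) 46 = true ∧ OrthB chevE6 (rB i j) 25 = true := by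
  decide +kernel

theorem l25 : 25 < chevE6.nroots := by decide +kernel

section

variable {K : Type} [Field K]

/-- the elements of the twisted system -/
noncomputable def xx (φ : K →+* K) (i j : Fin 3) (t : K) : GL chevE6.Idx K :=
  xr inList_E6 rA sA i j t * xr inList_E6 rB sB i j (φ t)

theorem xx_def (φ : K →+* K) (i j : Fin 3) (t : K) : xx φ i j t =
    xG inList_E6 (rA i j) ((sA i j : K) * t) * xG inList_E6 (rB i j) ((sB i j : K) * φ t) := rfl

theorem stein_xx (φ : K →+* K) : SteinRel (xx φ) := by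
  refine stein_mul_twist (stein inList_E6 tA.a tA.b tA.c tA.d) (stein inList_E6 tB.a tB.b tB.c tB.d) ?_ φ
  intro i j k l hij hkl s t
  exact xG_commute inList_E6 (tA.a i j hij) (tB.a k l hkl) (orthAB i j hij k l hkl) _ _

theorem xx_mem {q : ℕ} {φ : K →+* K} (hφ : ∀ x, φ x = x ^ q) :
    ∀ i j, i ≠ j → ∀ t, xx φ i j t ∈ twistedE6 K q := by
  have h01 : ∀ t, xx φ 0 1 t ∈ twistedE6 K q := fun t => by
    have h := pair_mem (K := K) (q := q) t (a := 56) (b := 36) (by simp)
    rw [← hφ] at h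
    have e : xx φ 0 1 t = xG inList_E6 56 t * xG inList_E6 36 (φ t) := by
      rw [xx_def]
      simp [rA, sA, rB, sB]
    rwa [e]
  have h10 : ∀ t, xx φ 1 0 t ∈ twistedE6 K q := fun t => by
    have h := pair_mem (K := K) (q := q) t (a := 15) (b := 35) (by simp)
    rw [← hφ] at h
    have e : xx φ 1 0 t = xG inList_E6 15 t * xG inList_E6 35 (φ t) := by
      rw [xx_def]
      simp [rA, sA, rB, sB]
    rwa [e]
  have h12 : ∀ t, xx φ 1 2 t ∈ twistedE6 K q := fun t => by
    have h := pair_mem (K := K) (q := q) (-t) (a := 42) (b := 37) (by simp)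
    rw [← hφ, map_neg] at h
    have e : xx φ 1 2 t = xG inList_E6 42 (-t) * xG inList_E6 37 (-φ t) := by
      rw [xx_def]
      simp [rA, sA, rB, sB]
    rwa [e]
  have h21 : ∀ t, xx φ 2 1 t ∈ twistedE6 K q := fun t => by
    have h := pair_mem (K := K) (q := q) (-t) (a := 29) (b := 34) (by simp)
    rw [← hφ, map_neg] at h
    have e : xx φ 2 1 t = xG inList_E6 29 (-t) * xG inList_E6 34 (-φ t) := by
      rw [xx_def]
      simp [rA, sA, rB, sB]
    rwa [e]
  have h := stein_xx φ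
  have h02 : ∀ t, xx φ 0 2 t ∈ twistedE6 K q := fun t => by
    have e := h.br 0 1 2 (by decide) (by decide) (by decide) t 1
    rw [mul_one, commutatorElement_def] at e
    rw [← e]
    exact mul_mem (mul_mem (mul_mem (h01 _) (h12 _)) (inv_mem (h01 _))) (inv_mem (h12 _))
  have h20 : ∀ t, xx φ 2 0 t ∈ twistedE6 K q := fun t => by
    have e := h.br 2 1 0 (by decide) (by decide) (by decide) t 1
    rw [mul_one, commutatorElement_def] at e
    rw [← e]
    exact mul_mem (mul_mem (mul_mem (h21 _) (h10 _)) (inv_mem (h21 _))) (inv_mem (h10 _))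
  intro i j hij t
  rcases ne3 i j hij with ⟨rfl, rfl⟩ | ⟨rfl, rfl⟩ | ⟨rfl, rfl⟩ | ⟨rfl, rfl⟩ | ⟨rfl, rfl⟩ | ⟨rfl, rfl⟩
  exacts [h01 t, h10 t, h12 t, h21 t, h02 t, h20 t]

theorem xx_ne_one (φ : K →+* K) : xx φ 0 1 1 ≠ 1 := by
  intro h
  have e : psi φ (up 1) = xx φ 0 1 1 := by
    rw [psi, prodHom_apply, rootHom₀_up, rootHom₀_up, xx_def]
    simp [rA, sA, rB, sB]
  rw [h] at e
  rcases prodHom_ker _ _ _ (rootHom_ker inList_E6 (RingHom.id K) l56) _ e with h1 | h1
  · have := congrArg (fun z : Matrix.SpecialLinearGroup (Fin 2) K => z.1 0 1) h1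
    simp [up] at this
  · have := congrArg (fun z : Matrix.SpecialLinearGroup (Fin 2) K => z.1 0 1) h1
    simp [up] at this

variable [Fintype K]

/-- **`SL₃(q²) → ²E₆(q)`.** -/
theorem exists_pi {q : ℕ} {φ : K →+* K} (hφ : ∀ x, φ x = x ^ q) :
    ∃ π : SpecialLinearGroup (Fin 3) K →* ↥(twistedE6 K q),
    (∀ i j (hij : i ≠ j) a, ((π (SpecialLinearGroup.transvection hij a) : ↥(twistedE6 K q)) : GL chevE6.Idx K) =
      xx φ i j a) ∧ π.ker ≤ Subgroup.center (SpecialLinearGroup (Fin 3) K) := by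
  classical
  obtain ⟨π, hπ, _, hker⟩ := Cfsg.Agent.H120.SLHom.exists_hom (m := 2) le_rfl (stein_xx φ)
  have hmem : ∀ g, π g ∈ twistedE6 K q := by
    intro g
    refine Cfsg.Agent.LieClassical.SLGen.transvection_induction (fun g => π g ∈ twistedE6 K q) ?_ ?_ g
    · intro i j hij c
      rw [hπ i j hij]
      exact xx_mem hφ i j hij c
    · intro A B hA hB
      rw [map_mul]
      exact mul_mem hA hB
  refine ⟨π.codRestrict (twistedE6 K q) hmem, fun i j hij a => ?_, ?_⟩
  · exact hπ i j hij a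
  · intro g hg
    exact hker ⟨0, 1, by decide, 1, xx_ne_one φ⟩ (congrArg Subtype.val hg)

/-- **The data.** -/
theorem exists_data {q : ℕ} (hq : IsPrimePow q) (hK : Fintype.card K = q ^ 2) :
    ∃ (k : Type) (_ : Field k) (_ : Fintype k) (π : SpecialLinearGroup (Fin 3) K →* ↥(twistedE6 K q))
      (ρ : SL2 k →* ↥(twistedE6 K q)), Fintype.card k = q ∧
      π.ker ≤ Subgroup.center (SpecialLinearGroup (Fin 3) K) ∧ Function.Injective ρ ∧
      ∀ x y, π x * ρ y = ρ y * π x := by
  obtain ⟨φ, hφ⟩ := Cfsg.Agent.ChevalleyStructure.D4Fixed.exists_frob (K := K) hq hK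
  obtain ⟨k, _, _, ι, hk, hι⟩ := exists_subfield K hq two_ne_zero hK
  obtain ⟨π, hπ, hker⟩ := exists_pi (K := K) (q := q) hφ
  have hR : RootIn inList_E6 ι (twistedE6 K q) 46 :=
    ⟨l46, fun t => single_mem (hι t) (by simp), fun t => by
      rw [show chevE6.neg 46 = 25 by decide]; exact single_mem (hι t) (by simp)⟩
  refine ⟨k, inferInstance, inferInstance, π, hR.hom, hk, hker, ?_, ?_⟩
  · have hinj : Function.Injective (ph (F := K) inList_E6 l46) :=
      ph_injective (D := chevE6) (F := K) inList_E6 (i := 1) (s := 39) (by decide) l46 (by decide)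
        (by decide +kernel)
    intro x y hxy
    have h1 : phi (SL2All.good_of_mem chevE6 inList_E6 46 l46) K (Matrix.SpecialLinearGroup.map ι x) =
        phi (SL2All.good_of_mem chevE6 inList_E6 46 l46) K (Matrix.SpecialLinearGroup.map ι y) :=
      congrArg Subtype.val hxy
    have h2 : ph inList_E6 l46 (Matrix.SpecialLinearGroup.map ι x) =
        ph inList_E6 l46 (Matrix.SpecialLinearGroup.map ι y) := Subtype.ext h1
    have h3 := hinj h2
    apply Subtype.ext
    ext a b
    apply ι.injective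
    exact congrFun (congrFun (congrArg Subtype.val h3) a) b
  · intro x y
    have key : ∀ i j, i ≠ j → ∀ (t : K) (y : SL2 k),
        xx φ i j t * rootHom₀ inList_E6 ι hR.lt y = rootHom₀ inList_E6 ι hR.lt y * xx φ i j t := by
      intro i j hij t y
      have hy : y ∈ Subgroup.closure (Cfsg.Agent.H343.gens k) := by rw [closure_gens]; trivial
      induction hy using Subgroup.closure_induction with
      | mem x hx =>
        rcases hx with ⟨u, rfl⟩ | ⟨u, rfl⟩
        · rw [rootHom₀_up, xx_def]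
          exact ((xG_commute inList_E6 (tA.a i j hij) l46 (orthA46 i j hij).1 _ _).mul_left
            (xG_commute inList_E6 (tB.a i j hij) l46 (orthB46 i j hij).1 _ _)).eq
        · rw [rootHom₀_lo, xx_def, show chevE6.neg 46 = 25 by decide]
          exact ((xG_commute inList_E6 (tA.a i j hij) l25 (orthA46 i j hij).2 _ _).mul_left
            (xG_commute inList_E6 (tB.a i j hij) l25 (orthB46 i j hij).2 _ _)).eq
      | one => rw [map_one, mul_one, one_mul]
      | mul x y _ _ hx hy => rw [map_mul, ← mul_assoc, hx, mul_assoc, hy, mul_assoc]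
      | inv x _ hx =>
        rw [map_inv]
        exact (Commute.inv_right (show Commute _ _ from hx)).eq
    apply Subtype.ext
    show ((π x : ↥(twistedE6 K q)) : GL chevE6.Idx K) * rootHom₀ inList_E6 ι hR.lt y =
      rootHom₀ inList_E6 ι hR.lt y * ((π x : ↥(twistedE6 K q)) : GL chevE6.Idx K)
    refine Cfsg.Agent.LieClassical.SLGen.transvection_induction
      (fun x => ((π x : ↥(twistedE6 K q)) : GL chevE6.Idx K) * rootHom₀ inList_E6 ι hR.lt y =
        rootHom₀ inList_E6 ι hR.lt y * ((π x : ↥(twistedE6 K q)) : GL chevE6.Idx K)) ?_ ?_ x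
    · intro i j hij c
      rw [hπ i j hij]
      exact key i j hij c y
    · intro A B hA hB
      rw [map_mul, Subgroup.coe_mul, mul_assoc, hB, ← mul_assoc, hA, mul_assoc]

end

/-! ### `SL₂(q)` -/

section SLTwo

variable {k : Type} [Field k] [Fintype k]

theorem wel_thr (h2 : (2 : k) = 0) : wel (1 : k) one_ne_zero * thr k * (wel (1 : k) one_ne_zero)⁻¹ = (thr k)⁻¹ := by
  rw [mul_inv_eq_iff_eq_mul, eq_inv_mul_iff_mul_eq]
  apply Subtype.ext
  show !![0, 1; -1, -1] * (!![0, 1; -1⁻¹, 0] * !![0, 1; -1, -1]) = !![0, (1 : k); -1⁻¹, 0]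
  ext i j
  have h3 : (1 : k) + 1 = 0 := by rw [one_add_one_eq_two, h2]
  have h4 : (-1 : k) = 1 := by linear_combination -h3
  fin_cases i <;> fin_cases j <;> simp [h4, h3]

theorem eight_dvd_sl2 (h2 : (2 : k) ≠ 0) : 8 ∣ Nat.card (SL2 k) := by
  refine Dvd.dvd.trans ?_ (dvd_card_sl (F := k) (n := 2) (j := 2) le_rfl le_rfl)
  have hodd : Fintype.card k % 2 = 1 := by
    rcases Nat.mod_two_eq_zero_or_one (Fintype.card k) with h | h
    · exfalso
      apply h2
      have h3 : ((Fintype.card k : ℕ) : k) = 0 := by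
        rw [Nat.cast_card_eq_zero]
      obtain ⟨p, hp⟩ := CharP.exists k
      have hpp : p.Prime := CharP.char_is_prime k p
      obtain ⟨n, -, hn⟩ := FiniteField.card k p
      have h4 : 2 ∣ p ^ (n : ℕ) := hn ▸ Nat.dvd_of_mod_eq_zero h
      have h5 := (Nat.prime_dvd_prime_iff_eq Nat.prime_two hpp).1 (Nat.prime_two.dvd_of_dvd_pow h4)
      subst h5
      exact_mod_cast CharP.cast_eq_zero k 2
    · exact h
  refine (Nat.modEq_iff_dvd' (Nat.one_le_pow _ _ Fintype.card_pos)).1 ?_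
  have h3 : Fintype.card k % 8 = 1 ∨ Fintype.card k % 8 = 3 ∨ Fintype.card k % 8 = 5 ∨ Fintype.card k % 8 = 7 := by
    omega
  rcases h3 with h | h | h | h <;> simp [Nat.ModEq, Nat.pow_mod, h]

end SLTwo

section Use

variable {K : Type} [Field K] [Fintype K] {q : ℕ} (hq : IsPrimePow q) (hK : Fintype.card K = q ^ 2)

include hq hK

/-- an element of order 3 commuting with `SL₃(q²)` -/
theorem exists_bad_three : ∃ x : ↥(twistedE6 K q), orderOf x = 3 ∧ Bad x := by
  haveI : Finite ↥(twistedE6 K q) := inferInstance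
  obtain ⟨k, _, _, π, ρ, -, hker, hinj, hc⟩ := exists_data (K := K) hq hK
  refine ⟨ρ (thr k), ?_, bad_of_comm_eight (Y := π.range) ?_ (eight_dvd_range hker)⟩
  · rw [orderOf_injective ρ hinj, orderOf_thr]
  · rintro _ ⟨y, rfl⟩
    exact hc y _

/-- **The primes dividing `|SL₃(q²)|`.** -/
theorem killAll_small_tw {r : ℕ} (hr : r.Prime) (h5 : 5 ≤ r)
    (hd : r ∣ Nat.card (SpecialLinearGroup (Fin 3) K)) : KillAll r ↥(twistedE6 K q) := by
  haveI : Finite ↥(twistedE6 K q) := inferInstance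
  haveI : Fact r.Prime := ⟨hr⟩
  obtain ⟨k, _, _, π, ρ, -, hker, hinj, hc⟩ := exists_data (K := K) hq hK
  obtain ⟨x, hx⟩ := exists_prime_orderOf_dvd_card' r hd
  have hx' : orderOf (π x) = r := orderOf_map hr (fun h => by
    have := Nat.le_of_dvd (by norm_num) h
    omega) hker hx
  by_cases h2 : (2 : k) = 0
  · refine ⟨π x, hx', Or.inr (Or.inr (Or.inr (Or.inl ⟨ρ (thr k), mem_normalizer_of_comm (hc x _).symm,
      ρ (wel 1 one_ne_zero), mem_normalizer_of_comm (hc x _).symm, ?_, ?_⟩)))⟩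
    · rw [orderOf_injective ρ hinj, orderOf_thr]
    · rw [← map_inv, ← map_inv, ← map_mul, ← map_mul, wel_thr h2]
  · refine killAll_of_bad hx' (bad_of_comm_eight (Y := ρ.range) ?_ ?_)
    · rintro _ ⟨y, rfl⟩
      exact (hc x y).symm
    · have h1 : Nat.card ρ.range = Nat.card (SL2 k) := (Nat.card_congr (MonoidHom.ofInjective hinj).toEquiv).symm
      rw [h1]
      exact eight_dvd_sl2 h2

end Use

end Cfsg.Agent.H744.Fx.TwE6
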